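import Groth.Agent.SiteTen.FlatMore
import Groth.Agent.DerCompLib.RestrAdj
import Groth.Agent.DerCompLib.SecEquiv
import Mathlib.CategoryTheory.Adjunction.Mates
import Mathlib.CategoryTheory.Adjunction.Additive

/-!
# The internal hom of modules on a ringed site and localisation

Sections of `Hom(M, N)` over `X` are the maps `M|_X ⟶ N|_X`, and the internal hom commutes with
restriction to a localised site.
-/

set_option autoImplicit false
set_option backward.isDefEq.respectTransparency false

universe u

open CategoryTheory CategoryTheory.Limits Opposite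

namespace Groth.Agent.SiteHom16

variable {C : Type u} [SmallCategory C] {J : GrothendieckTopology C}
  (O : Sheaf J CommRingCat.{u}) (U : C)

instance additive_restr : (ModSite.restr O U).Additive := DerCompLib.restr_additive U

instance additive_extZero : (ModSite.extZero O U).Additive :=
  (ModSite.extZeroAdj O U).left_adjoint_additive

instance preservesFiniteColimits_extZero : PreservesFiniteColimits (ModSite.extZero O U) := by
  haveI : (ModSite.extZero O U).IsLeftAdjoint := (ModSite.extZeroAdj O U).isLeftAdjoint
  infer_instance

/-- Precomposition with an isomorphism as an additive equivalence of groups of morphisms. -/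
def precompIso {A : Type*} [Category A] [Preadditive A] {X Y : A} (e : X ≅ Y) (N : A) :
    (X ⟶ N) ≃+ (Y ⟶ N) where
  toEquiv := e.homCongr (Iso.refl N)
  map_add' a b := by simp [Iso.homCongr, Preadditive.comp_add]

variable {O}

/-- Restriction commutes with the internal hom. -/
noncomputable def restrSheafHomIso (M : ModSite.Mod O) [ModSite.HasSheafHom M]
    [ModSite.HasSheafHom ((ModSite.restr O U).obj M)] :
    ModSite.sheafHom M ⋙ ModSite.restr O U ≅
      ModSite.restr O U ⋙ ModSite.sheafHom ((ModSite.restr O U).obj M) :=
  conjugateIsoEquiv
    ((ModSite.extZeroAdj O U).comp (ModSite.sheafHomAdj M))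
    ((ModSite.sheafHomAdj ((ModSite.restr O U).obj M)).comp (ModSite.extZeroAdj O U))
    (SiteTen.projShIso M)

/-- `freeOn O U ⊗ M ≅ j_!(M|_U)`. -/
noncomputable def freeOnTenIso (M : ModSite.Mod O) :
    ((ModSite.tensorBi O).flip.obj M).obj (ModSite.freeOn O U) ≅
      (ModSite.extZero O U).obj ((ModSite.restr O U).obj M) :=
  (SiteTen.tenFreeOnIso U).app M

/-- Sections of the internal hom over `U` are the maps of the restrictions. -/
noncomputable def sectSheafHomEquiv (M N : ModSite.Mod O) [ModSite.HasSheafHom M] :
    ModSite.sect ((ModSite.sheafHom M).obj N) U ≃+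
      ((ModSite.restr O U).obj M ⟶ (ModSite.restr O U).obj N) :=
  ((DerCompLib.secEquiv U _).symm.trans
    ((ModSite.sheafHomAdj M).homAddEquiv (ModSite.freeOn O U) N).symm).trans
      ((precompIso (freeOnTenIso U M) N).trans
        ((ModSite.extZeroAdj O U).homAddEquiv _ N))

end Groth.Agent.SiteHom16
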