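import Groth.Agent.SiteHom16.Equational
import Groth.Agent.DerCompLib.SiteFlat
import Groth.Agent.DerCompLib.LocalLift

/-!
# Inverse images of flat modules are flat
-/

set_option autoImplicit false
set_option backward.isDefEq.respectTransparency false

universe u

open CategoryTheory CategoryTheory.Limits Opposite

namespace Groth.Agent.SiteHom16

open DerCompLib (Sec secRes secMap Node nodeRes nodeEval coeffRes frS frGen Loc LocFlat)

section Loc

variable {C : Type u} [SmallCategory C] {J : GrothendieckTopology C}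

/-- Finitely many local properties hold simultaneously. -/
lemma loc_all {X : C} {ι : Type*} (A : Finset ι) (P : ι → ∀ ⦃W : C⦄, (W ⟶ X) → Prop)
    (h : ∀ i ∈ A, Loc J X (P i)) : Loc J X fun _ g => ∀ i ∈ A, P i g := by
  classical
  induction A using Finset.induction with
  | empty => exact Loc.of_forall (by simp)
  | insert i A hi ih =>
    refine ((h i (Finset.mem_insert_self i A)).and
      (ih fun j hj => h j (Finset.mem_insert_of_mem hj))).mono fun W g hg j hj => ?_
    rcases Finset.mem_insert.1 hj with rfl | hj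
    · exact hg.1
    · exact hg.2 j hj

variable {D : Type u} [SmallCategory D] {K : GrothendieckTopology D} {fn : D ⥤ C}

/-- Finitely many arrows into the image factor locally through a single one. -/
lemma loc_common (hflat : LocFlat K J fn) {W : C} {ι : Type*} (A : Finset ι) (E : ι → D)
    (t : ∀ i, W ⟶ fn.obj (E i)) :
    Loc J W fun W' g => ∃ (E₀ : D) (k : W' ⟶ fn.obj E₀),
      ∀ i ∈ A, ∃ h : E₀ ⟶ E i, k ≫ fn.map h = g ≫ t i := by
  classical
  induction A using Finset.induction with
  | empty => exact (hflat.nonempty W).mono fun W' g ⟨E₀, ⟨k⟩⟩ => ⟨E₀, k, by simp⟩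
  | insert i A hi ih =>
    refine ih.bind fun W' g ⟨E₀, k, hk⟩ => ?_
    refine (hflat.pair k (g ≫ t i)).mono fun W'' g' ⟨E₁, p₁, p₂, k', e₁, e₂⟩ =>
      ⟨E₁, k', fun j hj => ?_⟩
    rcases Finset.mem_insert.1 hj with rfl | hj
    · exact ⟨p₂, by rw [e₂, Category.assoc]⟩
    · obtain ⟨h, hh⟩ := hk j hj
      exact ⟨p₁ ≫ h, by rw [Functor.map_comp, reassoc_of% e₁, hh, Category.assoc]⟩

/-- Finitely many pairs of arrows equalised in the image are locally equalised. -/
lemma loc_equ (hflat : LocFlat K J fn) {W : C} {E : D} (k : W ⟶ fn.obj E) {κ : Type*}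
    (B : Finset κ) (E₁ : κ → D) (α β : ∀ j, E ⟶ E₁ j)
    (he : ∀ j ∈ B, k ≫ fn.map (α j) = k ≫ fn.map (β j)) :
    Loc J W fun W' g => ∃ (E' : D) (h : E' ⟶ E) (k' : W' ⟶ fn.obj E'),
      k' ≫ fn.map h = g ≫ k ∧ ∀ j ∈ B, h ≫ α j = h ≫ β j := by
  classical
  induction B using Finset.induction with
  | empty => exact Loc.of_forall fun W' g => ⟨E, 𝟙 E, g ≫ k, by simp, by simp⟩
  | insert i B hi ih =>
    refine (ih fun j hj => he j (Finset.mem_insert_of_mem hj)).bind fun W' g ⟨E', h, k', hk', hB⟩ => ?_
    have e : k' ≫ fn.map (h ≫ α i) = k' ≫ fn.map (h ≫ β i) := by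
      rw [Functor.map_comp, Functor.map_comp, reassoc_of% hk', reassoc_of% hk',
        he i (Finset.mem_insert_self i B)]
    refine (hflat.equ _ _ k' e).mono fun W'' g' ⟨E'', h', k'', hab, hk''⟩ =>
      ⟨E'', h' ≫ h, k'', ?_, fun j hj => ?_⟩
    · rw [Functor.map_comp, reassoc_of% hk'', hk', Category.assoc]
    · rcases Finset.mem_insert.1 hj with rfl | hj
      · rw [Category.assoc, Category.assoc, hab]
      · rw [Category.assoc, Category.assoc, hB j hj]

end Loc

section Pull

variable {C D : Type u} [SmallCategory C] [SmallCategory D] {J : GrothendieckTopology C}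
  {K : GrothendieckTopology D} {OC : Sheaf J CommRingCat.{u}} {OD : Sheaf K CommRingCat.{u}}
  (f : ModSite.RMor OC OD) (M : ModSite.Mod OD)

/-- A generator: a section of `M`. -/
abbrev GIdx : Type u := Σ E : D, Sec M E

/-- Generators on `D`. -/
abbrev genD (e : GIdx M) : D := e.1

/-- Generators on `C`. -/
abbrev genC (e : GIdx M) : C := f.fn.obj e.1

/-- A relation between sections of `M`. -/
abbrev RIdx : Type u :=
  Σ E : D, {c : Node (genD M) E →₀ OD.obj.obj (op E) //
    nodeEval (V := genD M) (M := M) (fun e => e.2) E c = 0}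

/-- Relations on `C`. -/
abbrev relC (l : RIdx M) : C := f.fn.obj l.1

/-- The ring map on sections. -/
noncomputable abbrev σr (E : D) : OD.obj.obj (op E) →+* OC.obj.obj (op (f.fn.obj E)) :=
  (f.sharp.hom.app (op E)).hom

lemma σr_res {E E' : D} (h : E' ⟶ E) (r : OD.obj.obj (op E)) :
    σr f E' ((OD.obj.map h.op).hom r) = (OC.obj.map (f.fn.map h).op).hom (σr f E r) :=
  ConcreteCategory.congr_hom (f.sharp.hom.naturality h.op) r

/-- Translating a node of `D` to `C`. -/
def pushNode {E : D} (q : Node (genD M) E) : Node (genC f M) (f.fn.obj E) :=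
  ⟨q.1, f.fn.map q.2⟩

/-- Translating coefficient families. -/
noncomputable def pushCoeff (E : D) : (Node (genD M) E →₀ OD.obj.obj (op E)) →+
    (Node (genC f M) (f.fn.obj E) →₀ OC.obj.obj (op (f.fn.obj E))) :=
  (Finsupp.mapDomain.addMonoidHom (pushNode f M)).comp
    (Finsupp.mapRange.addMonoidHom (σr f E).toAddMonoidHom)

lemma pushCoeff_single {E : D} (q : Node (genD M) E) (r : OD.obj.obj (op E)) :
    pushCoeff f M E (Finsupp.single q r) = Finsupp.single (pushNode f M q) (σr f E r) := by
  simp [pushCoeff]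

/-- The free module on the generators. -/
noncomputable abbrev GMod : ModSite.Mod OC := frS OC (genC f M)

/-- The free module on the relations. -/
noncomputable abbrev PMod : ModSite.Mod OC := frS OC (relC f M)

/-- The generators. -/
noncomputable abbrev gg : ∀ e, Sec (GMod f M) (genC f M e) := frGen OC (genC f M)

lemma exists_rho : ∃ ρ : PMod f M ⟶ GMod f M, ∀ l : RIdx M,
    secMap ρ (relC f M l) (frGen OC (relC f M) l) =
      nodeEval (gg f M) (f.fn.obj l.1) (pushCoeff f M l.1 l.2.1) := by
  obtain ⟨ρ, hρ⟩ := (DerCompLib.isFreeOn_frS OC (relC f M) (GMod f M)).2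
    fun l => nodeEval (gg f M) (f.fn.obj l.1) (pushCoeff f M l.1 l.2.1)
  exact ⟨ρ, congrFun hρ⟩

/-- The relations. -/
noncomputable def rho : PMod f M ⟶ GMod f M := (exists_rho f M).choose

lemma rho_gen (l : RIdx M) :
    secMap (rho f M) (relC f M l) (frGen OC (relC f M) l) =
      nodeEval (gg f M) (f.fn.obj l.1) (pushCoeff f M l.1 l.2.1) :=
  (exists_rho f M).choose_spec l

/-- The adjunction unit on sections. -/
noncomputable def unitSec {E : D} (m : Sec M E) : Sec (f.pull.obj M) (f.fn.obj E) :=
  secMap (f.adj.unit.app M) E m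

lemma unitSec_res {E E' : D} (h : E' ⟶ E) (m : Sec M E) :
    unitSec f M (secRes M h m) = secRes (f.pull.obj M) (f.fn.map h) (unitSec f M m) :=
  DerCompLib.secMap_secRes (f.adj.unit.app M) h m

lemma unitSec_sum_smul {E : D} {ι : Type*} (A : Finset ι) (r : ι → OD.obj.obj (op E))
    (m : ι → Sec M E) :
    unitSec f M (∑ i ∈ A, r i • m i) = ∑ i ∈ A, σr f E (r i) • unitSec f M (m i) :=
  (map_sum (secMap (f.adj.unit.app M) E) _ _).trans
    (Finset.sum_congr rfl fun i _ => (secMap (f.adj.unit.app M) E).map_smul (r i) (m i))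

lemma exists_pi : ∃ π : GMod f M ⟶ f.pull.obj M, ∀ e : GIdx M,
    secMap π (genC f M e) (gg f M e) = unitSec f M e.2 := by
  obtain ⟨π, hπ⟩ := (DerCompLib.isFreeOn_frS OC (genC f M) (f.pull.obj M)).2
    fun e => unitSec f M e.2
  exact ⟨π, congrFun hπ⟩

/-- The projection. -/
noncomputable def proj : GMod f M ⟶ f.pull.obj M := (exists_pi f M).choose

lemma proj_gen (e : GIdx M) : secMap (proj f M) (genC f M e) (gg f M e) = unitSec f M e.2 :=
  (exists_pi f M).choose_spec e

/-- The quotient by the relations. -/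
noncomputable abbrev Quo : ModSite.Mod OC := cokernel (rho f M)

/-- The class of a section. -/
noncomputable def cls {E : D} (m : Sec M E) : Sec (Quo f M) (f.fn.obj E) :=
  secMap (cokernel.π (rho f M)) (f.fn.obj E) (gg f M ⟨E, m⟩)

lemma cls_rel {E : D} (c : Node (genD M) E →₀ OD.obj.obj (op E))
    (hc : nodeEval (V := genD M) (M := M) (fun e => e.2) E c = 0) :
    nodeEval (V := genC f M) (M := Quo f M) (fun e => cls f M e.2) (f.fn.obj E)
      (pushCoeff f M E c) = 0 := by
  have h := congrArg (secMap (cokernel.π (rho f M)) (f.fn.obj E)) (rho_gen f M ⟨E, c, hc⟩)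
  rw [← DerCompLib.secMap_comp, cokernel.condition, DerCompLib.secMap_zero,
    DerCompLib.secMap_nodeEval] at h
  exact h.symm

/-- The tautological node of a section. -/
def nd {E : D} (m : Sec M E) : Node (genD M) E := ⟨⟨E, m⟩, 𝟙 E⟩

lemma eval_nd {E : D} (m : Sec M E) (r : OD.obj.obj (op E)) :
    nodeEval (V := genD M) (M := M) (fun e => e.2) E (Finsupp.single (nd M m) r) = r • m := by
  rw [DerCompLib.nodeEval_single]
  exact congrArg (r • ·) (DerCompLib.secRes_id M m)

lemma cls_nd {E : D} (m : Sec M E) (r : OD.obj.obj (op E)) :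
    nodeEval (V := genC f M) (M := Quo f M) (fun e => cls f M e.2) (f.fn.obj E)
      (pushCoeff f M E (Finsupp.single (nd M m) r)) = σr f E r • cls f M m := by
  rw [pushCoeff_single, DerCompLib.nodeEval_single]
  refine congrArg (σr f E r • ·) ?_
  change secRes (Quo f M) (f.fn.map (𝟙 E)) (cls f M m) = _
  rw [CategoryTheory.Functor.map_id, DerCompLib.secRes_id]

/-- The map corresponding to the quotient. -/
noncomputable def psi₀ : M ⟶ f.push.obj (Quo f M) where
  val :=
    { app := fun E => ModuleCat.ofHom (Y := ((f.push.obj (Quo f M)).val.obj E : Type u))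
        { toFun := fun m => cls f M (E := E.unop) m
          map_add' := fun (a b : Sec M E.unop) => by
            have h := cls_rel f M (Finsupp.single (nd M (a + b)) 1 -
              Finsupp.single (nd M a) 1 - Finsupp.single (nd M b) 1) (by
                rw [map_sub, map_sub, eval_nd, eval_nd, eval_nd, one_smul, one_smul, one_smul,
                  sub_sub, sub_self])
            rw [map_sub, map_sub, map_sub, map_sub, cls_nd, cls_nd, cls_nd, map_one, one_smul,
              one_smul, one_smul, sub_sub, sub_eq_zero] at h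
            exact h
          map_smul' := fun r (a : Sec M E.unop) => by
            have h := cls_rel f M (Finsupp.single (nd M ((r : OD.obj.obj (op E.unop)) • a)) 1 -
              Finsupp.single (nd M a) r) (by
                rw [map_sub, eval_nd, eval_nd, one_smul, sub_self])
            rw [map_sub, map_sub, cls_nd, cls_nd, map_one, one_smul] at h
            exact sub_eq_zero.1 h }
      naturality := fun {E E'} h => by
        refine ModuleCat.hom_ext (LinearMap.ext fun (a : Sec M E.unop) => ?_)
        let q : Node (genD M) E'.unop := ⟨⟨E.unop, a⟩, h.unop⟩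
        have e := cls_rel f M (Finsupp.single (nd M (secRes M h.unop a)) 1 - Finsupp.single q 1) (by
            rw [map_sub, eval_nd, DerCompLib.nodeEval_single, one_smul]
            exact sub_self _)
        rw [map_sub, map_sub, cls_nd, map_one, one_smul, pushCoeff_single, map_one,
          DerCompLib.nodeEval_single, one_smul] at e
        exact sub_eq_zero.1 e }

/-- The comparison with the quotient. -/
noncomputable def psi : f.pull.obj M ⟶ Quo f M := (f.adj.homEquiv _ _).symm (psi₀ f M)

lemma proj_psi : proj f M ≫ psi f M = cokernel.π (rho f M) := by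
  refine (DerCompLib.isFreeOn_frS OC (genC f M) _).1 (funext fun e => ?_)
  dsimp only
  rw [DerCompLib.secMap_comp, proj_gen]
  have h := (f.adj.homEquiv_unit M (Quo f M) (psi f M)).symm.trans
    ((f.adj.homEquiv _ _).apply_symm_apply (psi₀ f M))
  exact congrArg (fun γ => secMap γ e.1 e.2) h

instance epi_proj : Epi (proj f M) := by
  refine Preadditive.epi_of_cokernel_zero ?_
  apply (f.adj.homEquiv _ _).injective
  refine SheafOfModules.hom_ext (PresheafOfModules.hom_ext fun E =>
    ModuleCat.hom_ext (LinearMap.ext fun (m : Sec M E.unop) => ?_))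
  rw [f.adj.homEquiv_unit, f.adj.homEquiv_unit]
  change secMap (cokernel.π (proj f M)) (f.fn.obj E.unop) (unitSec f M m) =
    secMap (0 : f.pull.obj M ⟶ cokernel (proj f M)) (f.fn.obj E.unop) (unitSec f M m)
  refine (congrArg (secMap (cokernel.π (proj f M)) (f.fn.obj E.unop))
    (proj_gen f M ⟨E.unop, m⟩).symm).trans ?_
  rw [← DerCompLib.secMap_comp, cokernel.condition, DerCompLib.secMap_zero, DerCompLib.secMap_zero]

/-- The coefficient family of a combination of relations. -/
noncomputable def relMap (X : C) : (Node (relC f M) X →₀ OC.obj.obj (op X)) →ₗ[OC.obj.obj (op X)]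
    (Node (genC f M) X →₀ OC.obj.obj (op X)) :=
  Finsupp.linearCombination _ fun d => coeffRes OC (genC f M) d.2 (pushCoeff f M d.1.1 d.1.2.1)

lemma coeffRes_smul {X W : C} (g : W ⟶ X) (r : OC.obj.obj (op X))
    (c : Node (genC f M) X →₀ OC.obj.obj (op X)) :
    coeffRes OC (genC f M) g (r • c) = (OC.obj.map g.op).hom r • coeffRes OC (genC f M) g c := by
  induction c using Finsupp.induction_linear with
  | zero => simp
  | add a b ha hb => simp only [smul_add, map_add, ha, hb]
  | single n s => simp [DerCompLib.coeffRes_single, map_mul]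

lemma coeffRes_comp {X Y W : C} (g : W ⟶ Y) (h : Y ⟶ X)
    (c : Node (genC f M) X →₀ OC.obj.obj (op X)) :
    coeffRes OC (genC f M) g (coeffRes OC (genC f M) h c) = coeffRes OC (genC f M) (g ≫ h) c := by
  induction c using Finsupp.induction_linear with
  | zero => simp
  | add a b ha hb => simp only [map_add, ha, hb]
  | single n s =>
    simp only [DerCompLib.coeffRes_single, res_res]
    rw [show nodeRes (genC f M) g (nodeRes (genC f M) h n) = nodeRes (genC f M) (g ≫ h) n from
      Sigma.ext rfl (heq_of_eq (Category.assoc _ _ _).symm)]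

lemma coeffRes_relMap {X W : C} (g : W ⟶ X) (b : Node (relC f M) X →₀ OC.obj.obj (op X)) :
    coeffRes OC (genC f M) g (relMap f M X b) = relMap f M W (coeffRes OC (relC f M) g b) := by
  induction b using Finsupp.induction_linear with
  | zero => simp
  | add a b ha hb => simp only [map_add, ha, hb]
  | single d r =>
    simp only [relMap, DerCompLib.coeffRes_single, Finsupp.linearCombination_single, coeffRes_smul,
      coeffRes_comp, nodeRes]

lemma nodeEval_relMap {X : C} (b : Node (relC f M) X →₀ OC.obj.obj (op X)) :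
    nodeEval (gg f M) X (relMap f M X b) =
      secMap (rho f M) X (nodeEval (frGen OC (relC f M)) X b) := by
  induction b using Finsupp.induction_linear with
  | zero => simp
  | add a b ha hb => simp only [map_add, ha, hb]
  | single d r =>
    rw [relMap, Finsupp.linearCombination_single, DerCompLib.nodeEval_single, map_smul, map_smul,
      DerCompLib.secMap_secRes, rho_gen, DerCompLib.secRes_nodeEval]

/-- A translated relation node. -/
abbrev tr {W : C} (d : Node (relC f M) W) (q : Node (genD M) d.1.1) : Node (genC f M) W :=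
  nodeRes (genC f M) d.2 (pushNode f M q)

open Classical in
lemma relMap_apply {W : C} (b : Node (relC f M) W →₀ OC.obj.obj (op W)) (a : Node (genC f M) W) :
    relMap f M W b a = ∑ d ∈ b.support, b d * ∑ q ∈ d.1.2.1.support,
      if tr f M d q = a then (OC.obj.map d.2.op).hom (σr f d.1.1 (d.1.2.1 q)) else 0 := by
  rw [relMap, Finsupp.linearCombination_apply, Finsupp.sum, Finsupp.finsetSum_apply]
  refine Finset.sum_congr rfl fun d _ => ?_
  rw [Finsupp.smul_apply, smul_eq_mul]
  refine congrArg (b d * ·) ?_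
  conv_lhs => rw [← Finsupp.sum_single d.1.2.1, Finsupp.sum, map_sum, map_sum]
  rw [Finsupp.finsetSum_apply]
  exact Finset.sum_congr rfl fun q _ => by
    rw [pushCoeff_single, DerCompLib.coeffRes_single, Finsupp.single_apply]

/-- The core step: explicit relations are locally trivial. -/
theorem core (hM : HasLocalTriv M) {W : C} {n : ℕ} (c : Fin n → OC.obj.obj (op W))
    (σs : Fin n → Sec (f.pull.obj M) W)
    (a : Fin n → (Node (genC f M) W →₀ OC.obj.obj (op W)))
    (b : Node (relC f M) W →₀ OC.obj.obj (op W))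
    (hσ : ∀ j, secMap (proj f M) W (nodeEval (gg f M) W (a j)) = σs j)
    (hb : relMap f M W b = ∑ j, c j • a j) :
    Loc J W fun W' g => Factors (f.pull.obj M) (fun j => (OC.obj.map g.op).hom (c j))
      (fun j => secRes (f.pull.obj M) g (σs j)) := by
  classical
  have hflat : LocFlat K J f.fn := DerCompLib.locFlat_of_exact K J f.fn
  let A : Finset (Node (genC f M) W) := (Finset.univ.biUnion fun j => (a j).support) ∪
    b.support.biUnion fun d => d.1.2.1.support.image (tr f M d)
  refine ((loc_common hflat A (fun x => x.1.1) (fun x => x.2)).and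
    (loc_common hflat b.support (fun d => d.1.1) (fun d => d.2))).bind ?_
  rintro W₁ g₁ ⟨⟨Ea, ka, hka⟩, ⟨Eb, kb, hkb⟩⟩
  refine (hflat.pair ka kb).bind ?_
  rintro W₂ g₂ ⟨E₀, pa, pb, k₀, ea, eb⟩
  choose ha hha using hka
  choose hd hhd using hkb
  let g₁₂ := g₂ ≫ g₁
  let αA : ∀ x : ↥A, E₀ ⟶ x.1.1.1 := fun x => pa ≫ ha x.1 x.2
  let βB : ∀ d : ↥b.support, E₀ ⟶ d.1.1.1 := fun d => pb ≫ hd d.1 d.2
  have hαA : ∀ x, k₀ ≫ f.fn.map (αA x) = g₁₂ ≫ x.1.2 := fun x => by
    rw [Functor.map_comp, reassoc_of% ea, hha, Category.assoc]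
  have hβB : ∀ d, k₀ ≫ f.fn.map (βB d) = g₁₂ ≫ d.1.2 := fun d => by
    rw [Functor.map_comp, reassoc_of% eb, hhd, Category.assoc]
  have hmem : ∀ (d : ↥b.support) (q : ↥d.1.1.2.1.support), tr f M d.1 q.1 ∈ A := fun d q =>
    Finset.mem_union_right _ (Finset.mem_biUnion.2 ⟨d.1, d.2, Finset.mem_image_of_mem _ q.2⟩)
  refine (loc_equ hflat k₀ (Finset.univ : Finset (Σ d : ↥b.support, ↥d.1.1.2.1.support))
    (fun p => p.2.1.1.1) (fun p => αA ⟨tr f M p.1.1 p.2.1, hmem p.1 p.2⟩)
    (fun p => βB p.1 ≫ p.2.1.2) fun p _ => ?_).bind ?_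
  · refine (hαA ⟨_, hmem p.1 p.2⟩).trans (Eq.symm ?_)
    rw [Functor.map_comp]
    refine (Category.assoc _ _ _).symm.trans ((congrArg (· ≫ f.fn.map p.2.1.2) (hβB p.1)).trans ?_)
    exact Category.assoc _ _ _
  rintro W₃ g₃ ⟨E, h, k, hk, heq⟩
  let s : ↥A → Sec M E := fun x => secRes M (h ≫ αA x) x.1.1.2
  let r : ↥b.support → ↥A → OD.obj.obj (op E) := fun d x => ∑ q ∈ d.1.1.2.1.support,
    if tr f M d.1 q = x.1 then (OD.obj.map (h ≫ βB d).op).hom (d.1.1.2.1 q) else 0
  have hrel : ∀ d ∈ (Finset.univ : Finset ↥b.support), ∑ x, r d x • s x = 0 := fun d _ => by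
    have h0 := congrArg (secRes M (h ≫ βB d)) d.1.1.2.2
    change secRes M (h ≫ βB d) (Finsupp.linearCombination _ _ d.1.1.2.1) = _ at h0
    rw [map_zero, Finsupp.linearCombination_apply, Finsupp.sum, map_sum] at h0
    refine Eq.trans ?_ h0
    simp only [r, Finset.sum_smul, ite_smul, zero_smul]
    rw [Finset.sum_comm]
    refine Finset.sum_congr rfl fun q hq => ?_
    rw [Finset.sum_eq_single ⟨tr f M d.1 q, hmem d ⟨q, hq⟩⟩
      (fun x _ hx => if_neg fun e => hx (Subtype.ext e.symm))
      (fun hx => absurd (Finset.mem_univ _) hx), if_pos rfl, DerCompLib.secRes_smul]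
    refine congrArg (fun v => (OD.obj.map (h ≫ βB d).op).hom (d.1.1.2.1 q) • v) ?_
    rw [DerCompLib.secRes_comp]
    have e := heq ⟨d, ⟨q, hq⟩⟩ (Finset.mem_univ _)
    exact congrArg (fun γ => secRes M γ q.1.2) (e.trans (Category.assoc _ _ _).symm)
  obtain ⟨R, hR, hR'⟩ := exists_factors_finset hM s r Finset.univ hrel
  refine (hflat.cov R hR k).mono ?_
  rintro W₄ g₄ ⟨E', h', k', hh', hk'⟩
  obtain ⟨l, t, B, hst, hkill⟩ := hR' h' hh'
  let G := g₄ ≫ g₃ ≫ g₁₂
  have hA : ∀ x : ↥A, k' ≫ f.fn.map (h' ≫ h ≫ αA x) = G ≫ x.1.2 := fun x => by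
    simp only [Functor.map_comp, reassoc_of% hk', reassoc_of% hk, hαA, G, Category.assoc]
  have hB : ∀ d : ↥b.support, k' ≫ f.fn.map (h' ≫ h ≫ βB d) = G ≫ d.1.2 := fun d => by
    simp only [Functor.map_comp, reassoc_of% hk', reassoc_of% hk, hβB, G, Category.assoc]
  have eG : ((g₄ ≫ g₃) ≫ g₂) ≫ g₁ = G := by simp [G, g₁₂]
  refine ⟨l, fun p => secRes (f.pull.obj M) k' (unitSec f M (t p)),
    fun j p => ∑ x : ↥A, (OC.obj.map G.op).hom (a j x.1) * (OC.obj.map k'.op).hom (σr f E' (B x p)),
    fun j => ?_, fun p => ?_⟩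
  · dsimp only
    rw [eG]
    have e : σs j = ∑ x : ↥A, a j x.1 • secRes (f.pull.obj M) x.1.2 (unitSec f M x.1.1.2) := by
      rw [← hσ, DerCompLib.secMap_nodeEval]
      simp only [proj_gen]
      change Finsupp.linearCombination _ _ (a j) = _
      rw [Finsupp.linearCombination_apply_of_mem_supported _
        (s := A) (fun x hx => Finset.mem_union_left _ (Finset.mem_biUnion.2 ⟨j, Finset.mem_univ _, hx⟩))]
      exact (Finset.sum_coe_sort A _).symm
    rw [e, map_sum]
    simp only [DerCompLib.secRes_smul, DerCompLib.secRes_comp, Finset.sum_smul]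
    rw [Finset.sum_comm]
    refine Finset.sum_congr rfl fun x _ => ?_
    have e' : secRes (f.pull.obj M) (G ≫ x.1.2) (unitSec f M x.1.1.2) =
        ∑ p, (OC.obj.map k'.op).hom (σr f E' (B x p)) • secRes (f.pull.obj M) k' (unitSec f M (t p)) := by
      rw [← hA, ← DerCompLib.secRes_comp, ← unitSec_res]
      have hx := hst x
      rw [DerCompLib.secRes_comp] at hx
      rw [hx, unitSec_sum_smul, map_sum]
      simp only [DerCompLib.secRes_smul]
    rw [e', Finset.smul_sum]
    simp only [smul_smul]
  · rw [eG]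
    simp only [Finset.sum_mul]
    rw [Finset.sum_comm]
    have hw : ∀ x : ↥A, (OC.obj.map G.op).hom (relMap f M W b x.1) =
        ∑ j, (OC.obj.map G.op).hom (c j) * (OC.obj.map G.op).hom (a j x.1) := fun x => by
      rw [hb, Finsupp.finsetSum_apply, map_sum]
      simp [Finsupp.smul_apply, map_mul]
    calc _ = ∑ x : ↥A, (OC.obj.map G.op).hom (relMap f M W b x.1) *
          (OC.obj.map k'.op).hom (σr f E' (B x p)) := Finset.sum_congr rfl fun x _ => by
            rw [hw, Finset.sum_mul]
            exact Finset.sum_congr rfl fun j _ => by ring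
      _ = ∑ d : ↥b.support, (OC.obj.map G.op).hom (b d.1) * (OC.obj.map k'.op).hom
            (σr f E' (∑ x : ↥A, B x p * (OD.obj.map h'.op).hom (r d x))) := by
            simp only [relMap_apply, map_sum, map_mul, Finset.sum_mul]
            rw [Finset.sum_comm, ← Finset.sum_coe_sort b.support]
            refine Finset.sum_congr rfl fun d _ => ?_
            rw [Finset.mul_sum]
            refine Finset.sum_congr rfl fun x _ => ?_
            simp only [r, map_sum, Finset.mul_sum, Finset.sum_mul]
            refine Finset.sum_congr rfl fun q _ => ?_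
            split_ifs
            · rw [res_res, res_res, σr_res f (h' ≫ h ≫ βB d), res_res, hB]
              ring
            · simp
      _ = 0 := Finset.sum_eq_zero fun d _ => by
            rw [hkill d (Finset.mem_univ _) p, map_zero, map_zero, mul_zero]

/-- Inverse images of modules with locally trivial relations have locally trivial relations. -/
theorem hasLocalTriv_pull (hM : HasLocalTriv M) : HasLocalTriv (f.pull.obj M) := by
  classical
  intro U n c σs hrel
  have h₁ : Loc J U fun W g => ∃ a : Fin n → (Node (genC f M) W →₀ OC.obj.obj (op W)),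
      ∀ j, secMap (proj f M) W (nodeEval (gg f M) W (a j)) = secRes (f.pull.obj M) g (σs j) := by
    refine (loc_all Finset.univ (fun (j : Fin n) W g => ∃ a : Node (genC f M) W →₀ OC.obj.obj (op W),
      secMap (proj f M) W (nodeEval (gg f M) W a) = secRes (f.pull.obj M) g (σs j)) fun j _ => ?_).mono
        fun W g hg => ?_
    · refine (DerCompLib.exists_local_preimage (proj f M) (σs j)).bind fun W g ⟨y, hy⟩ => ?_
      obtain ⟨R, hR, hR'⟩ := (DerCompLib.isFreeOn_frS OC (genC f M)).exists_local_nodeEval y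
      refine ⟨R, hR, fun W' g' hg' => ?_⟩
      obtain ⟨a, ha⟩ := hR' g' hg'
      exact ⟨a, by rw [ha, DerCompLib.secMap_secRes, hy, DerCompLib.secRes_comp]⟩
    · choose a ha using fun j => hg j (Finset.mem_univ j)
      exact ⟨a, ha⟩
  have h₂ : Loc J U fun W g => ∃ (a : Fin n → (Node (genC f M) W →₀ OC.obj.obj (op W)))
      (b : Node (relC f M) W →₀ OC.obj.obj (op W)),
      (∀ j, secMap (proj f M) W (nodeEval (gg f M) W (a j)) = secRes (f.pull.obj M) g (σs j)) ∧
        relMap f M W b = ∑ j, (OC.obj.map g.op).hom (c j) • a j := by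
    refine h₁.bind ?_
    rintro W g ⟨a, ha⟩
    let w := ∑ j, (OC.obj.map g.op).hom (c j) • a j
    have h0 : secMap (cokernel.π (rho f M)) W (nodeEval (gg f M) W w) = 0 := by
      rw [← proj_psi, DerCompLib.secMap_comp]
      have : secMap (proj f M) W (nodeEval (gg f M) W w) = secRes (f.pull.obj M) g (∑ j, c j • σs j) := by
        simp only [w, map_sum, map_smul, ha, DerCompLib.secRes_smul]
      rw [this, hrel, map_zero, map_zero]
    refine (DerCompLib.exists_local_boundary (ShortComplex.exact_cokernel (rho f M))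
      (nodeEval (gg f M) W w) h0).bind fun W' g' ⟨y, hy⟩ => ?_
    obtain ⟨R, hR, hR'⟩ := (DerCompLib.isFreeOn_frS OC (relC f M)).exists_local_nodeEval y
    refine Loc.bind ⟨R, hR, hR'⟩ fun W'' g'' ⟨b, hb⟩ => ?_
    have h1 : nodeEval (gg f M) W'' (relMap f M W'' b - coeffRes OC (genC f M) (g'' ≫ g') w) = 0 := by
      rw [map_sub, sub_eq_zero, nodeEval_relMap, hb, DerCompLib.secMap_secRes, ← DerCompLib.secRes_nodeEval]
      exact (congrArg (secRes _ g'') hy).trans (DerCompLib.secRes_comp _ _ _ _)
    obtain ⟨T, hT, hT'⟩ := (DerCompLib.isFreeOn_frS OC (genC f M)).nodeEval_eq_zero_local _ h1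
    refine ⟨T, hT, fun W₃ g₃ hg₃ => ⟨fun j => coeffRes OC (genC f M) (g₃ ≫ g'' ≫ g') (a j),
      coeffRes OC (relC f M) g₃ b, fun j => ?_, ?_⟩⟩
    · rw [← DerCompLib.secRes_nodeEval, DerCompLib.secMap_secRes, ha, DerCompLib.secRes_comp]
      simp only [Category.assoc]
    · rw [← coeffRes_relMap, sub_eq_zero.1 ((map_sub _ _ _).symm.trans (hT' g₃ hg₃)), coeffRes_comp]
      simp only [w, map_sum, coeffRes_smul, res_res, Category.assoc]
  refine Loc.bind (Q := fun W g => Factors (f.pull.obj M) (fun j => (OC.obj.map g.op).hom (c j))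
      (fun j => secRes (f.pull.obj M) g (σs j))) h₂ ?_
  rintro W g ⟨a, b, ha, hb⟩
  exact (core f M hM _ _ a b ha hb).mono fun W' g' hf => by
    simpa only [res_res, DerCompLib.secRes_comp] using hf

/-- Inverse images of flat modules are flat. -/
theorem isFlat_pull (hM : ModSite.IsFlat M) : ModSite.IsFlat (f.pull.obj M) :=
  isFlat_of_hasLocalTriv (hasLocalTriv_pull f M (hasLocalTriv_of_isFlat hM))

end Pull

end Groth.Agent.SiteHom16
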