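import Groth.Agent.SiteHom16.Equational
import Groth.Prelude.Def_ModSite2
import Mathlib.CategoryTheory.Sites.Point.Conservative
import Mathlib.RingTheory.Flat.EquationalCriterion

/-!
# Flatness and stalks at points of a site
-/

set_option autoImplicit false
set_option backward.isDefEq.respectTransparency false

universe u

open CategoryTheory CategoryTheory.Limits Opposite

namespace Groth.Agent.SiteHom16

variable {C : Type u} [SmallCategory C] {J : GrothendieckTopology C} {O : Sheaf J CommRingCat.{u}}
  (p : GrothendieckTopology.Point.{u} J)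

open DerCompLib (Sec secRes)

/-- Two neighbourhoods of a point have a common refinement. -/
lemma exists_refine {X Y : C} (x : p.fiber.obj X) (y : p.fiber.obj Y) :
    ∃ (W : C) (w : p.fiber.obj W) (g : W ⟶ X) (h : W ⟶ Y),
      p.fiber.map g w = x ∧ p.fiber.map h w = y :=
  let a := Functor.elementsMk p.fiber X x
  let b := Functor.elementsMk p.fiber Y y
  ⟨(IsCofiltered.min a b).1, (IsCofiltered.min a b).2, (IsCofiltered.minToLeft a b).1,
    (IsCofiltered.minToRight a b).1, (IsCofiltered.minToLeft a b).2, (IsCofiltered.minToRight a b).2⟩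

/-- Finitely many elements of a stalk are germs on one neighbourhood, refining a given one. -/
lemma exists_germs (P : Cᵒᵖ ⥤ AddCommGrpCat.{u}) {X₀ : C} (x₀ : p.fiber.obj X₀) :
    ∀ {n : ℕ} (c : Fin n → ToType (p.presheafFiber.obj P)),
      ∃ (W : C) (w : p.fiber.obj W) (g : W ⟶ X₀) (z : Fin n → ToType (P.obj (op W))),
        p.fiber.map g w = x₀ ∧ ∀ i, p.toPresheafFiber W w P (z i) = c i := by
  intro n
  induction n with
  | zero => exact fun c => ⟨X₀, x₀, 𝟙 _, Fin.elim0, by simp, fun i => i.elim0⟩
  | succ n ih =>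
    intro c
    obtain ⟨W, w, g, z, hg, hz⟩ := ih fun i => c i.castSucc
    obtain ⟨Y, y, t, ht⟩ := p.toPresheafFiber_jointly_surjective (c (Fin.last n))
    obtain ⟨V, v, a, b, ha, hb⟩ := exists_refine p w y
    refine ⟨V, v, a ≫ g, Fin.snoc (fun i => P.map a.op (z i)) (P.map b.op t), ?_, fun i => ?_⟩
    · rw [Functor.map_comp, ConcreteCategory.comp_apply, ha, hg]
    · refine Fin.lastCases ?_ (fun j => ?_) i
      · rw [Fin.snoc_last, p.toPresheafFiber_w_apply, hb, ht]
      · rw [Fin.snoc_castSucc, p.toPresheafFiber_w_apply, ha, hz]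

/-- Finitely many elements of the stalk of the structure sheaf are germs on one neighbourhood. -/
lemma exists_germsRing {X₀ : C} (x₀ : p.fiber.obj X₀) :
    ∀ {n : ℕ} (c : Fin n → ModSite.stalkRing p O),
      ∃ (W : C) (w : p.fiber.obj W) (g : W ⟶ X₀) (z : Fin n → O.obj.obj (op W)),
        p.fiber.map g w = x₀ ∧ ∀ i, ModSite.germRing p W w (z i) = c i := by
  intro n
  induction n with
  | zero => exact fun c => ⟨X₀, x₀, 𝟙 _, Fin.elim0, by simp, fun i => i.elim0⟩
  | succ n ih =>
    intro c
    obtain ⟨W, w, g, z, hg, hz⟩ := ih fun i => c i.castSucc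
    obtain ⟨Y, y, t, ht⟩ := p.toPresheafFiber_jointly_surjective (P := O.obj) (c (Fin.last n))
    obtain ⟨V, v, a, b, ha, hb⟩ := exists_refine p w y
    refine ⟨V, v, a ≫ g, Fin.snoc (fun i => O.obj.map a.op (z i)) (O.obj.map b.op t), ?_, fun i => ?_⟩
    · rw [Functor.map_comp, ConcreteCategory.comp_apply, ha, hg]
    · refine Fin.lastCases ?_ (fun j => ?_) i
      · rw [Fin.snoc_last]
        exact (p.toPresheafFiber_w_apply b v O.obj t).trans (by rw [hb]; exact ht)
      · rw [Fin.snoc_castSucc]
        exact (p.toPresheafFiber_w_apply a v O.obj (z j)).trans (by rw [ha]; exact hz j)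

variable {F : ModSite.Mod O}

/-- Finitely many elements of a stalk of a module are germs on one neighbourhood. -/
lemma exists_germsSec {X₀ : C} (x₀ : p.fiber.obj X₀) {n : ℕ} (c : Fin n → ModSite.stalkAb p F) :
    ∃ (W : C) (w : p.fiber.obj W) (g : W ⟶ X₀) (z : Fin n → Sec F W),
      p.fiber.map g w = x₀ ∧ ∀ i, ModSite.germ p F W w (z i) = c i :=
  exists_germs p (ModSite.toAb F).obj x₀ c

lemma germ_res {X W : C} (g : W ⟶ X) (w : p.fiber.obj W) (s : Sec F X) :
    ModSite.germ p F W w (secRes F g s) = ModSite.germ p F X (p.fiber.map g w) s :=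
  p.toPresheafFiber_w_apply g w (ModSite.toAb F).obj s

lemma germRing_res {X W : C} (g : W ⟶ X) (w : p.fiber.obj W) (r : O.obj.obj (op X)) :
    ModSite.germRing p W w ((O.obj.map g.op).hom r) = ModSite.germRing p X (p.fiber.map g w) r :=
  p.toPresheafFiber_w_apply g w O.obj r

lemma germ_sum_smul {X : C} (x : p.fiber.obj X) {n : ℕ} (r : Fin n → O.obj.obj (op X))
    (s : Fin n → Sec F X) :
    ModSite.germ p F X x (∑ i, r i • s i) =
      ∑ i, ModSite.germRing p X x (r i) • ModSite.germ p F X x (s i) :=
  (map_sum (p.toPresheafFiber X x (ModSite.toAb F).obj).hom _ _).trans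
    (Finset.sum_congr rfl fun i _ => ModSite.germ_smul p F X x (r i) (s i))

/-- Equal germs are equal near the point. -/
lemma exists_res_eq {X : C} (x : p.fiber.obj X) {ι : Type*} (A : Finset ι) (a b : ι → Sec F X)
    (h : ∀ i ∈ A, ModSite.germ p F X x (a i) = ModSite.germ p F X x (b i)) :
    ∃ (W : C) (g : W ⟶ X) (w : p.fiber.obj W), p.fiber.map g w = x ∧
      ∀ i ∈ A, secRes F g (a i) = secRes F g (b i) := by
  classical
  induction A using Finset.induction with
  | empty => exact ⟨X, 𝟙 X, x, by simp, by simp⟩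
  | insert i A hi ih =>
    obtain ⟨W, g, w, hg, hA⟩ := ih fun j hj => h j (Finset.mem_insert_of_mem hj)
    have e : ModSite.germ p F W w (secRes F g (a i)) = ModSite.germ p F W w (secRes F g (b i)) := by
      rw [germ_res, germ_res, hg, h i (Finset.mem_insert_self i A)]
    obtain ⟨V, k, v, hk, hv⟩ := (p.toPresheafFiber_eq_iff' (P := (ModSite.toAb F).obj) W w _ _).1 e
    refine ⟨V, k ≫ g, v, by rw [Functor.map_comp, ConcreteCategory.comp_apply, hk, hg], fun j hj => ?_⟩
    rw [← DerCompLib.secRes_comp, ← DerCompLib.secRes_comp]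
    rcases Finset.mem_insert.1 hj with rfl | hj
    · exact hv
    · rw [hA j hj]

/-- Equal germs of functions are equal near the point. -/
lemma exists_resRing_eq {X : C} (x : p.fiber.obj X) {ι : Type*} (A : Finset ι)
    (a b : ι → O.obj.obj (op X))
    (h : ∀ i ∈ A, ModSite.germRing p X x (a i) = ModSite.germRing p X x (b i)) :
    ∃ (W : C) (g : W ⟶ X) (w : p.fiber.obj W), p.fiber.map g w = x ∧
      ∀ i ∈ A, (O.obj.map g.op).hom (a i) = (O.obj.map g.op).hom (b i) := by
  classical
  induction A using Finset.induction with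
  | empty => exact ⟨X, 𝟙 X, x, by simp, by simp⟩
  | insert i A hi ih =>
    obtain ⟨W, g, w, hg, hA⟩ := ih fun j hj => h j (Finset.mem_insert_of_mem hj)
    have e : ModSite.germRing p W w ((O.obj.map g.op).hom (a i)) =
        ModSite.germRing p W w ((O.obj.map g.op).hom (b i)) := by
      rw [germRing_res, germRing_res, hg, h i (Finset.mem_insert_self i A)]
    obtain ⟨V, k, v, hk, hv⟩ := (p.toPresheafFiber_eq_iff' (P := O.obj) W w _ _).1 e
    refine ⟨V, k ≫ g, v, by rw [Functor.map_comp, ConcreteCategory.comp_apply, hk, hg], fun j hj => ?_⟩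
    rw [← res_res g k, ← res_res g k]
    rcases Finset.mem_insert.1 hj with rfl | hj
    · exact hv
    · rw [hA j hj]

/-- Stalks of flat modules are flat. -/
theorem flat_stalkMod (hF : ModSite.IsFlat F) :
    Module.Flat (ModSite.stalkRing p O) (ModSite.stalkMod p F) := by
  refine Module.Flat.iff_forall_isTrivialRelation.2 fun {n f s} h => ?_
  obtain ⟨X₀, x₀⟩ : ∃ X, Nonempty (p.fiber.obj X) := by
    obtain ⟨e⟩ := IsCofiltered.nonempty (C := p.fiber.Elements)
    exact ⟨e.1, ⟨e.2⟩⟩
  obtain ⟨X, x, -, r, -, hr⟩ := exists_germsRing p x₀.some f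
  obtain ⟨W, w, g, t, hg, ht⟩ := exists_germsSec p x s
  let r' : Fin n → O.obj.obj (op W) := fun i => (O.obj.map g.op).hom (r i)
  have hr' : ∀ i, ModSite.germRing p W w (r' i) = f i := fun i => by
    rw [germRing_res, hg, hr]
  have h0 : ModSite.germ p F W w (∑ i, r' i • t i) = ModSite.germ p F W w 0 := by
    refine ((germ_sum_smul p w r' t).trans (Eq.trans ?_ h)).trans
      (map_zero (p.toPresheafFiber W w (ModSite.toAb F).obj).hom).symm
    exact Finset.sum_congr rfl fun i _ => by rw [hr' i]; exact congrArg _ (ht i)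
  obtain ⟨Y, k, y, hk, hrel⟩ := exists_res_eq p w {()} (fun _ => ∑ i, r' i • t i) (fun _ => 0)
    (fun _ _ => h0)
  have hrel' : ∑ i, (O.obj.map k.op).hom (r' i) • secRes F k (t i) = 0 := by
    refine Eq.trans ?_ ((hrel () (by simp)).trans (map_zero _))
    rw [map_sum]
    exact Finset.sum_congr rfl fun i _ => (DerCompLib.secRes_smul F k _ _).symm
  obtain ⟨S, hS, hS'⟩ := hasLocalTriv_of_isFlat hF Y n _ _ hrel'
  obtain ⟨Z, e, he, z, hz⟩ := p.jointly_surjective S hS y
  obtain ⟨l, u, a, hu, ha⟩ := hS' e he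
  have hzw : p.fiber.map (e ≫ k) z = w := by
    rw [Functor.map_comp, ConcreteCategory.comp_apply, hz, hk]
  refine ⟨l, fun i j => ModSite.germRing p Z z (a i j), fun j => ModSite.germ p F Z z (u j),
    fun i => ?_, fun j => ?_⟩
  · refine Eq.trans ?_ ((congrArg (ModSite.germ p F Z z) (hu i)).trans (germ_sum_smul p z (a i) u))
    rw [germ_res, hz, germ_res, hk]
    exact (ht i).symm
  · refine Eq.trans ?_ (((map_sum (p.toPresheafFiber Z z O.obj).hom _ _).symm.trans
      (congrArg (ModSite.germRing p Z z) (ha j))).trans (map_zero (p.toPresheafFiber Z z O.obj).hom))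
    refine Finset.sum_congr rfl fun i _ => ?_
    refine Eq.trans ?_ (map_mul (p.toPresheafFiber Z z O.obj).hom _ _).symm
    rw [mul_comm]
    refine congrArg (fun v => ModSite.germRing p Z z (a i j) * v) ?_
    exact ((germRing_res p e z _).trans (by rw [hz, germRing_res, hk, hr' i])).symm

lemma Factors.res {W W' : C} (k : W' ⟶ W) {n : ℕ} {r : Fin n → O.obj.obj (op W)}
    {s : Fin n → Sec F W} (h : Factors F r s) :
    Factors F (fun j => (O.obj.map k.op).hom (r j)) (fun j => secRes F k (s j)) := by
  obtain ⟨l, t, a, hs, ha⟩ := h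
  refine ⟨l, fun m => secRes F k (t m), fun j m => (O.obj.map k.op).hom (a j m), fun j => ?_, fun m => ?_⟩
  · simp [hs, DerCompLib.secRes_smul]
  · rw [Finset.sum_congr rfl fun j _ => (map_mul (O.obj.map k.op).hom _ _).symm, ← map_sum, ha, map_zero]

/-- A module with flat stalks at a conservative family of points is flat. -/
theorem isFlat_of_flat_stalkMod (P : ObjectProperty (GrothendieckTopology.Point.{u} J))
    (hP : P.IsConservativeFamilyOfPoints)
    (h : ∀ q, P q → Module.Flat (ModSite.stalkRing q O) (ModSite.stalkMod q F)) :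
    ModSite.IsFlat F := by
  refine isFlat_of_hasLocalTriv fun U n f s hrel => ?_
  let ι := Σ W : C, {g : W ⟶ U //
    Factors F (fun j => (O.obj.map g.op).hom (f j)) (fun j => secRes F g (s j))}
  refine ⟨Sieve.ofArrows (fun i : ι => i.1) (fun i => i.2.1),
    (hP.jointly_reflect_ofArrows_mem _).2 fun Φ x => ?_, ?_⟩
  · let q := Φ.obj
    haveI := h q Φ.property
    have h0 : ∑ i, ModSite.germRing q U x (f i) • ModSite.germ q F U x (s i) = 0 := by
      rw [← germ_sum_smul, hrel]
      exact map_zero (q.toPresheafFiber U x (ModSite.toAb F).obj).hom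
    obtain ⟨l, a, y, hy, ha⟩ := Module.Flat.isTrivialRelation_of_sum_smul_eq_zero h0
    obtain ⟨V, v, g, t, hg, ht⟩ := exists_germsSec q x y
    obtain ⟨W, w, k, b, hk, hb⟩ := exists_germsRing q v fun m : Fin (n * l) =>
      a (finProdFinEquiv.symm m).1 (finProdFinEquiv.symm m).2
    let b' : Fin n → Fin l → O.obj.obj (op W) := fun i j => b (finProdFinEquiv (i, j))
    have hb' : ∀ i j, ModSite.germRing q W w (b' i j) = a i j := fun i j => by
      simp only [b', hb, Equiv.symm_apply_apply]
    have hkg : q.fiber.map (k ≫ g) w = x := by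
      rw [Functor.map_comp, ConcreteCategory.comp_apply, hk, hg]
    have e₁ : ∀ i ∈ (Finset.univ : Finset (Fin n)),
        ModSite.germ q F W w (secRes F (k ≫ g) (s i)) =
          ModSite.germ q F W w (∑ j, b' i j • secRes F k (t j)) := fun i _ => by
      rw [germ_sum_smul, germ_res, hkg]
      refine (hy i).trans ?_
      refine Finset.sum_congr rfl fun j _ => ?_
      rw [hb', germ_res, hk]
      exact congrArg _ (ht j).symm
    obtain ⟨Y, e, z, he, hz⟩ := exists_res_eq q w Finset.univ _ _ e₁
    have e₂ : ∀ j ∈ (Finset.univ : Finset (Fin l)), ModSite.germRing q Y z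
        (∑ i, (O.obj.map e.op).hom (b' i j) * (O.obj.map (e ≫ k ≫ g).op).hom (f i)) =
          ModSite.germRing q Y z 0 := fun j _ => by
      refine ((map_sum (q.toPresheafFiber Y z O.obj).hom _ _).trans (Eq.trans ?_ (ha j))).trans
        (map_zero (q.toPresheafFiber Y z O.obj).hom).symm
      refine Finset.sum_congr rfl fun i _ => (map_mul (q.toPresheafFiber Y z O.obj).hom _ _).trans ?_
      rw [mul_comm]
      refine congrArg₂ (· * ·) ((germRing_res q _ z _).trans ?_) ((germRing_res q e z _).trans ?_)
      · rw [Functor.map_comp, ConcreteCategory.comp_apply, he, hkg]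
      · rw [he, hb']
    obtain ⟨Z, d, z', hd, hd'⟩ := exists_resRing_eq q z Finset.univ _ _ e₂
    refine ⟨⟨Z, d ≫ e ≫ k ≫ g, l, fun j => secRes F (d ≫ e) (secRes F k (t j)),
      fun i j => (O.obj.map (d ≫ e).op).hom (b' i j), fun i => ?_, fun j => ?_⟩, z', ?_⟩
    · have := congrArg (secRes F d) (hz i (Finset.mem_univ i))
      simp only [map_sum, DerCompLib.secRes_smul, DerCompLib.secRes_comp, res_res] at this
      simpa [DerCompLib.secRes_comp] using this
    · have := hd' j (Finset.mem_univ j)
      simp only [map_sum, map_mul, map_zero, res_res] at this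
      simpa [Category.assoc] using this
    · simp only [Functor.map_comp, ConcreteCategory.comp_apply]
      refine (congrArg (fun v => q.fiber.map g (q.fiber.map k v))
        ((congrArg (fun v => q.fiber.map e v) hd).trans he)).trans ?_
      exact (congrArg (fun v => q.fiber.map g v) hk).trans hg
  · intro W g hg
    obtain ⟨Z, k, g', ⟨i⟩, rfl⟩ := hg
    have := i.2.2.res k
    simp only [res_res, DerCompLib.secRes_comp] at this
    exact this

end Groth.Agent.SiteHom16
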