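import Groth.Agent.SiteTen.FlatMore
import Groth.Agent.DerCompLib.SiteFree

/-!
# The equational criterion of flatness on a ringed site

A module is flat if and only if linear relations between its sections are locally trivial; locally,
finitely many relations can be trivialised at the same time.
-/

set_option autoImplicit false
set_option backward.isDefEq.respectTransparency false

universe u

open CategoryTheory CategoryTheory.Limits Opposite MonoidalCategory TensorProduct

namespace Groth.Agent.SiteHom16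

variable {C : Type u} [SmallCategory C] {J : GrothendieckTopology C} {O : Sheaf J CommRingCat.{u}}

open DerCompLib (Sec secRes secMap secEquiv)

/-- The family `s` is a combination of sections `t` with coefficients killing `r`. -/
def Factors (F : ModSite.Mod O) {W : C} {n : ℕ} (r : Fin n → O.obj.obj (op W))
    (s : Fin n → Sec F W) : Prop :=
  ∃ (l : ℕ) (t : Fin l → Sec F W) (a : Fin n → Fin l → O.obj.obj (op W)),
    (∀ j, s j = ∑ k, a j k • t k) ∧ ∀ k, ∑ j, a j k * r j = 0

lemma factors_zero (F : ModSite.Mod O) {W : C} {n : ℕ} (r : Fin n → O.obj.obj (op W)) :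
    Factors F r (fun _ => 0) :=
  ⟨0, Fin.elim0, fun _ => Fin.elim0, fun _ => by simp, fun k => k.elim0⟩

lemma Factors.add {F : ModSite.Mod O} {W : C} {n : ℕ} {r : Fin n → O.obj.obj (op W)}
    {s s' : Fin n → Sec F W} (h : Factors F r s) (h' : Factors F r s') : Factors F r (s + s') := by
  obtain ⟨l, t, a, hs, ha⟩ := h
  obtain ⟨l', t', a', hs', ha'⟩ := h'
  refine ⟨l + l', Fin.append t t', fun j => Fin.append (a j) (a' j), fun j => ?_, fun k => ?_⟩
  · simp [Fin.sum_univ_add, hs, hs']
  · refine Fin.addCases (fun k => ?_) (fun k => ?_) k <;> simp [ha, ha']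

section Global

variable {n : ℕ} (f : Fin n → ∀ V : Cᵒᵖ, O.obj.obj V)
  (hf : ∀ j {V W : Cᵒᵖ} (g : V ⟶ W), (O.obj.map g).hom (f j V) = f j W)

variable (O n) in
/-- The presheaf `O^n`. -/
noncomputable def powPre : ModSite.preMod O where
  obj V := ModuleCat.of ((O.obj ⋙ forget₂ CommRingCat.{u} RingCat.{u}).obj V)
    (Fin n → ((O.obj ⋙ forget₂ CommRingCat.{u} RingCat.{u}).obj V : Type u))
  map {V W} g := ModuleCat.ofHom
    (Y := (ModuleCat.restrictScalars ((O.obj ⋙ forget₂ CommRingCat.{u} RingCat.{u}).map g).hom).obj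
      (ModuleCat.of ((O.obj ⋙ forget₂ CommRingCat.{u} RingCat.{u}).obj W)
        (Fin n → ((O.obj ⋙ forget₂ CommRingCat.{u} RingCat.{u}).obj W : Type u))))
    { toFun := fun a j => (O.obj.map g).hom (a j)
      map_add' := fun a b => funext fun j => map_add _ _ _
      map_smul' := fun r a => funext fun j => map_mul _ _ _ }
  map_id V := ModuleCat.hom_ext (LinearMap.ext fun a => funext fun j => by
    change (O.obj.map (𝟙 V)).hom (a j) = a j
    simp)
  map_comp {V W X} g h := ModuleCat.hom_ext (LinearMap.ext fun a => funext fun j => by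
    change (O.obj.map (g ≫ h)).hom (a j) = (O.obj.map h).hom ((O.obj.map g).hom (a j))
    simp)

/-- The linear form of a family of global functions at one object. -/
noncomputable def powForm (V : Cᵒᵖ) : (Fin n → O.obj.obj V) →ₗ[O.obj.obj V] O.obj.obj V :=
  ∑ j, (LinearMap.proj j).smulRight (f j V)

lemma powForm_apply (V : Cᵒᵖ) (a : Fin n → O.obj.obj V) : powForm f V a = ∑ j, a j * f j V := by
  simp [powForm]

/-- The map `O^n ⟶ O` of a family of global functions. -/
noncomputable def powMap : powPre O n ⟶ (ModSite.toPre O).obj (ModSite.unit O) where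
  app V := ModuleCat.ofHom (R := (O.obj ⋙ forget₂ CommRingCat.{u} RingCat.{u}).obj V)
    (X := (Fin n → ((O.obj ⋙ forget₂ CommRingCat.{u} RingCat.{u}).obj V : Type u)))
    (Y := (((ModSite.toPre O).obj (ModSite.unit O)).obj V : Type u)) (powForm f V)
  naturality {V W} g := ModuleCat.hom_ext (LinearMap.ext fun a => by
    change powForm f W (fun j => (O.obj.map g).hom (a j)) = (O.obj.map g).hom (powForm f V a)
    rw [powForm_apply, powForm_apply, map_sum]
    exact Finset.sum_congr rfl fun j _ => by rw [map_mul, hf j g])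

variable (F : ModSite.Mod O)

/-- The `j`-th coordinate on `O^n ⊗ F`. -/
noncomputable def powProj (j : Fin n) (V : Cᵒᵖ) :
    (powPre O n ⊗ (ModSite.toPre O).obj F).obj V →ₗ[O.obj.obj V] Sec F V.unop :=
  TensorProduct.lift (R := O.obj.obj V) (M := Fin n → O.obj.obj V) (N := Sec F V.unop)
    ((LinearMap.lsmul (O.obj.obj V) (Sec F V.unop)).comp (LinearMap.proj j))

lemma factors_ker {V : Cᵒᵖ}
    (z : (kernel (powMap f hf) ⊗ (ModSite.toPre O).obj F).obj V) :
    Factors F (W := V.unop) (fun j => f j V)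
      (fun j => powProj F j V
        (((kernel.ι (powMap f hf)) ▷ (ModSite.toPre O).obj F).app V z)) := by
  induction z using TensorProduct.induction_on with
  | zero => simpa using factors_zero F (W := V.unop) fun j => f j V
  | tmul κ t =>
    refine ⟨1, fun _ => t, fun j _ => (kernel.ι (powMap f hf)).app V κ j, fun j => ?_, fun _ => ?_⟩
    · rw [Fin.sum_univ_one]
      rfl
    · exact (powForm_apply f V ((kernel.ι (powMap f hf)).app V κ)).symm.trans
        (congrArg (fun γ => γ.app V κ) (kernel.condition (powMap f hf)))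
  | add z z' hz hz' =>
    convert hz.add hz' using 1
    funext j
    simp

include hf in
/-- Relations with global coefficients are locally trivial. -/
theorem exists_factors_of_global (hF : ModSite.IsFlat F) {U : C} (s : Fin n → Sec F U)
    (h : ∑ j, f j (op U) • s j = 0) :
    ∃ S ∈ J U, ∀ ⦃W : C⦄ (g : W ⟶ U), S g →
      Factors F (fun j => f j (op W)) (fun j => secRes F g (s j)) := by
  classical
  let F' := (ModSite.toPre O).obj F
  let m := powMap f hf
  let T := tensorRight F' ⋙ ModSite.shPre O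
  haveI : PreservesFiniteLimits (ModSite.shPre O) :=
    inferInstanceAs (PreservesFiniteLimits (ModSite.sheafify O))
  haveI := hF.1
  haveI : PreservesFiniteLimits T :=
    preservesFiniteLimits_of_natIso (SiteTen.shTenRightIso F).symm
  haveI : T.Additive := by
    haveI := preservesBinaryBiproducts_of_preservesBinaryProducts T
    exact Functor.additive_of_preservesBinaryBiproducts T
  let x : (powPre O n ⊗ F').obj (op U) :=
    ∑ j, (Pi.single j 1 : Fin n → O.obj.obj (op U)) ⊗ₜ[O.obj.obj (op U)] s j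
  have hx : (m ▷ F').app (op U) x = 0 := by
    refine (map_sum _ _ _).trans ?_
    have e : ∀ j, (m ▷ F').app (op U)
        ((Pi.single j 1 : Fin n → O.obj.obj (op U)) ⊗ₜ[O.obj.obj (op U)] s j) =
          ((1 : O.obj.obj (op U)) ⊗ₜ[O.obj.obj (op U)] (f j (op U) • s j)) := fun j => by
      change (powForm f (op U) (Pi.single j 1) : O.obj.obj (op U)) ⊗ₜ[O.obj.obj (op U)] s j = _
      rw [powForm_apply, Finset.sum_eq_single j (fun i _ hi => by simp [hi])
        (fun hj => absurd (Finset.mem_univ j) hj), Pi.single_eq_same, one_mul,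
        TensorProduct.tmul_smul, TensorProduct.smul_tmul', smul_eq_mul, mul_one]
    refine (Finset.sum_congr rfl fun j _ => e j).trans ?_
    exact (TensorProduct.tmul_sum _ _ _).symm.trans
      ((congrArg _ h).trans (TensorProduct.tmul_zero _ _))
  let y : ModSite.freeOn O U ⟶ T.obj (powPre O n) :=
    (secEquiv U _).symm ((SiteTen.η O _).app (op U) x)
  have hy : y ≫ T.map m = 0 := by
    apply (secEquiv U _).injective
    rw [DerCompLib.secEquiv_comp, map_zero, AddEquiv.apply_symm_apply]
    refine (congrArg (fun γ => γ.app (op U) x) ((SiteTen.shAdj O).unit.naturality (m ▷ F'))).symm.trans ?_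
    exact (congrArg ((SiteTen.η O _).app (op U)) hx).trans (map_zero _)
  obtain ⟨y', hy'⟩ := KernelFork.IsLimit.lift'
    (KernelFork.mapIsLimit _ (kernelIsKernel m) T) y hy
  let ŷ := secEquiv U _ y'
  have hŷ : secMap (T.map (kernel.ι m)) U ŷ = (SiteTen.η O _).app (op U) x := by
    refine (DerCompLib.secEquiv_comp U y' _).symm.trans ?_
    exact (congrArg (secEquiv U _) hy').trans (AddEquiv.apply_symm_apply _ _)
  have hW₁ := (J.W_iff_isLocallyBijective _).1
    (SiteTen.isW_unit (O := O) (kernel m ⊗ F'))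
  haveI := hW₁.2
  haveI := ((J.W_iff_isLocallyBijective _).1 (SiteTen.isW_unit (O := O) (powPre O n ⊗ F'))).1
  let S₁ := Presheaf.imageSieve (SiteTen.abMap (SiteTen.η O (kernel m ⊗ F'))) ŷ
  have key : ∀ ⦃W : C⦄ ⦃g : W ⟶ U⦄, S₁ g → ∃ z, ∃ S₂ ∈ J W, ∀ ⦃W' : C⦄ (k : W' ⟶ W), S₂ k →
      SiteTen.res (powPre O n ⊗ F') k (((kernel.ι m) ▷ F').app (op W) z) =
        SiteTen.res (powPre O n ⊗ F') k (SiteTen.res _ g x) := fun W g hg => by
    obtain ⟨z, hz⟩ := hg
    have e : (SiteTen.η O _).app (op W) (((kernel.ι m) ▷ F').app (op W) z) =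
        (SiteTen.η O _).app (op W) (SiteTen.res _ g x) := by
      refine (congrArg (fun γ => γ.app (op W) z) ((SiteTen.shAdj O).unit.naturality
        ((kernel.ι m) ▷ F'))).trans ?_
      refine (congrArg (fun w => secMap (T.map (kernel.ι m)) W w) hz).trans ?_
      refine (DerCompLib.secMap_secRes _ g ŷ).trans ?_
      exact (congrArg _ hŷ).trans (SiteTen.res_app _ g x)
    exact ⟨z, _, Presheaf.equalizerSieve_mem J
      (SiteTen.abMap (SiteTen.η O (powPre O n ⊗ F'))) (X := op W) _ _ e, fun _ k hk => hk⟩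
  choose z S₂ hS₂ hz using key
  refine ⟨Sieve.bind S₁.arrows fun W g hg => S₂ hg, J.bind_covering (Presheaf.imageSieve_mem J _ _)
    fun W g hg => hS₂ hg, ?_⟩
  rintro W' _ ⟨W, k, g, hg, hk, rfl⟩
  have e := (hz hg k hk).trans (SiteTen.res_comp _ g k x)
  rw [SiteTen.res_app] at e
  convert factors_ker f hf F
    (SiteTen.res (kernel m ⊗ F') k (z hg)) using 1
  funext i
  refine Eq.trans ?_ (congrArg (powProj F i (op W')) e).symm
  change _ = powProj F i (op W') (SiteTen.res (powPre O n ⊗ F') (k ≫ g) x)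
  have e' : ∀ j, powProj F i (op W') (SiteTen.res (powPre O n ⊗ F') (k ≫ g)
      ((Pi.single j 1 : Fin n → O.obj.obj (op U)) ⊗ₜ[O.obj.obj (op U)] s j)) =
      (O.obj.map (k ≫ g).op).hom ((Pi.single j 1 : Fin n → O.obj.obj (op U)) i) •
        secRes F (k ≫ g) (s j) := fun j => rfl
  rw [map_sum, map_sum, Finset.sum_congr rfl fun j _ => e' j]
  rw [Finset.sum_eq_single i (fun j _ hj => by simp [Ne.symm hj])
    (fun hi => absurd (Finset.mem_univ i) hi)]
  simp

end Global

/-- A relation between sections of a flat module is locally trivial. -/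
theorem exists_factors {F : ModSite.Mod O} (hF : ModSite.IsFlat F) {U : C} {n : ℕ}
    (f : Fin n → O.obj.obj (op U)) (s : Fin n → Sec F U) (h : ∑ j, f j • s j = 0) :
    ∃ S ∈ J U, ∀ ⦃W : C⦄ (g : W ⟶ U), S g →
      Factors F (fun j => (O.obj.map g.op).hom (f j)) (fun j => secRes F g (s j)) := by
  obtain ⟨S, hS, hS'⟩ := exists_factors_of_global (O := O.over U)
    (fun j V => (O.obj.map V.unop.hom.op).hom (f j))
    (fun j V W g => by
      change (O.obj.map g.unop.left.op).hom ((O.obj.map V.unop.hom.op).hom (f j)) = _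
      rw [← ConcreteCategory.comp_apply, ← O.obj.map_comp, ← op_comp, Over.w g.unop]) ((ModSite.restr O U).obj F)
    (SiteTen.isFlat_restr hF U) (U := Over.mk (𝟙 U)) s (by
      refine Eq.trans ?_ h
      refine Finset.sum_congr rfl fun j _ => ?_
      change ((O.obj.map (𝟙 U).op).hom (f j)) • (s j : Sec F U) = _
      simp)
  refine ⟨Sieve.overEquiv (Over.mk (𝟙 U)) S, (J.mem_over_iff S).1 hS, fun W g hg => ?_⟩
  exact hS' (Over.homMk g (by simp) : Over.mk g ⟶ Over.mk (𝟙 U)) ((Sieve.overEquiv_iff _ g).1 hg |>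
    fun hh => by convert hh using 2 <;> simp)

/-- Linear relations between sections of `F` are locally trivial. -/
def HasLocalTriv (F : ModSite.Mod O) : Prop :=
  ∀ (U : C) (n : ℕ) (f : Fin n → O.obj.obj (op U)) (s : Fin n → Sec F U),
    ∑ j, f j • s j = 0 → ∃ S ∈ J U, ∀ ⦃W : C⦄ (g : W ⟶ U), S g →
      Factors F (fun j => (O.obj.map g.op).hom (f j)) (fun j => secRes F g (s j))

theorem hasLocalTriv_of_isFlat {F : ModSite.Mod O} (hF : ModSite.IsFlat F) : HasLocalTriv F :=
  fun _ _ f s h => exists_factors hF f s h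

lemma res_res {U V W : C} (g : V ⟶ U) (k : W ⟶ V) (r : O.obj.obj (op U)) :
    (O.obj.map k.op).hom ((O.obj.map g.op).hom r) = (O.obj.map (k ≫ g).op).hom r := by
  rw [← ConcreteCategory.comp_apply, ← O.obj.map_comp, ← op_comp]

/-- Finitely many relations can be trivialised at the same time. -/
theorem exists_factors_finset {F : ModSite.Mod O} (hF : HasLocalTriv F) {U : C} {ι : Type*}
    [Fintype ι] {κ : Type*} (w : ι → Sec F U) (r : κ → ι → O.obj.obj (op U)) (A : Finset κ)
    (h : ∀ a ∈ A, ∑ i, r a i • w i = 0) :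
    ∃ S ∈ J U, ∀ ⦃W : C⦄ (g : W ⟶ U), S g →
      ∃ (l : ℕ) (t : Fin l → Sec F W) (b : ι → Fin l → O.obj.obj (op W)),
        (∀ i, secRes F g (w i) = ∑ k, b i k • t k) ∧
        ∀ a ∈ A, ∀ k, ∑ i, b i k * (O.obj.map g.op).hom (r a i) = 0 := by
  classical
  induction A using Finset.induction with
  | empty =>
    refine ⟨⊤, J.top_mem U, fun W g _ => ⟨Fintype.card ι,
      fun k => secRes F g (w ((Fintype.equivFin ι).symm k)),
      fun i k => if Fintype.equivFin ι i = k then 1 else 0, fun i => ?_, by simp⟩⟩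
    simp [ite_smul]
  | insert a A ha ih =>
    obtain ⟨S, hS, hS'⟩ := ih fun c hc => h c (Finset.mem_insert_of_mem hc)
    have key : ∀ ⦃W : C⦄ ⦃g : W ⟶ U⦄, S g → ∃ T ∈ J W, ∀ ⦃W' : C⦄ (e : W' ⟶ W), T e →
        ∃ (l : ℕ) (t : Fin l → Sec F W') (b : ι → Fin l → O.obj.obj (op W')),
        (∀ i, secRes F (e ≫ g) (w i) = ∑ k, b i k • t k) ∧
        ∀ c ∈ insert a A, ∀ k, ∑ i, b i k * (O.obj.map (e ≫ g).op).hom (r c i) = 0 := fun W g hg => by
      obtain ⟨l, t, b, hw, hb⟩ := hS' g hg
      have hrel : ∑ k, (∑ i, b i k * (O.obj.map g.op).hom (r a i)) • t k = 0 := by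
        have h₀ := congrArg (secRes F g) (h a (Finset.mem_insert_self a A))
        rw [map_zero, map_sum] at h₀
        refine Eq.trans ?_ h₀
        simp only [DerCompLib.secRes_smul, hw, Finset.smul_sum, smul_smul, Finset.sum_smul]
        rw [Finset.sum_comm]
        exact Finset.sum_congr rfl fun i _ => Finset.sum_congr rfl fun k _ => by rw [mul_comm]
      obtain ⟨T, hT, hT'⟩ := hF W l _ t hrel
      refine ⟨T, hT, fun W' e he => ?_⟩
      obtain ⟨l', t', c, ht, hc⟩ := hT' e he
      refine ⟨l', t', fun i m => ∑ k, (O.obj.map e.op).hom (b i k) * c k m, fun i => ?_, fun d hd m => ?_⟩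
      · rw [← DerCompLib.secRes_comp, hw, map_sum]
        simp only [DerCompLib.secRes_smul, ht, Finset.smul_sum, smul_smul, Finset.sum_smul]
        rw [Finset.sum_comm]
      · simp only [Finset.sum_mul, ← res_res g e]
        rw [Finset.sum_comm]
        rcases Finset.mem_insert.1 hd with rfl | hd
        · refine Eq.trans (Finset.sum_congr rfl fun k _ => ?_) (hc m)
          simp only [map_sum, Finset.mul_sum]
          exact Finset.sum_congr rfl fun i _ => by rw [map_mul]; ring
        · refine Finset.sum_eq_zero fun k _ => ?_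
          have h₁ := congrArg (O.obj.map e.op).hom (hb d hd k)
          simp only [map_sum, map_zero] at h₁
          have : ∑ i, (O.obj.map e.op).hom (b i k) * c k m *
              (O.obj.map e.op).hom ((O.obj.map g.op).hom (r d i)) =
                c k m * ∑ i, (O.obj.map e.op).hom (b i k * (O.obj.map g.op).hom (r d i)) := by
            rw [Finset.mul_sum]
            exact Finset.sum_congr rfl fun i _ => by rw [map_mul]; ring
          rw [this, h₁, mul_zero]
    choose T hT hT' using key
    refine ⟨Sieve.bind S.arrows fun W g hg => T hg, J.bind_covering hS fun W g hg => hT hg, ?_⟩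
    rintro W' _ ⟨W, e, g, hg, he, rfl⟩
    exact hT' hg e he

/-- An element of a tensor product killed by an injective map is locally zero. -/
theorem locally_eq_zero {F : ModSite.Mod O} (hF : HasLocalTriv F) {X Y : ModSite.preMod O}
    (f : X ⟶ Y) (hf : ∀ V, Function.Injective (f.app V)) {U : C}
    (z : (X ⊗ (ModSite.toPre O).obj F).obj (op U))
    (hz : (f ▷ (ModSite.toPre O).obj F).app (op U) z = 0) :
    ∃ S ∈ J U, ∀ ⦃W : C⦄ (g : W ⟶ U), S g →
      SiteTen.res (X ⊗ (ModSite.toPre O).obj F) g z = 0 := by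
  classical
  letI : Module (O.obj.obj (op U)) (Y.obj (op U)) := (Y.obj (op U)).isModule
  letI : Module (O.obj.obj (op U)) (X.obj (op U)) := (X.obj (op U)).isModule
  let F₀ : Type u := Sec F U
  obtain ⟨s, rfl⟩ := TensorProduct.exists_finset (R := O.obj.obj (op U)) (M := (X.obj (op U) : Type u)) (N := F₀) z
  let ys : ↥s → (Y.obj (op U) : Type u) := fun i => f.app (op U) i.1.1
  let q : ((Y.obj (op U) : Type u) →₀ (O.obj.obj (op U))) →ₗ[(O.obj.obj (op U))] (Y.obj (op U) : Type u) :=
    Finsupp.linearCombination (O.obj.obj (op U)) _root_.id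
  have hq : Function.Surjective q := fun y => ⟨Finsupp.single y 1, by simp [q]⟩
  let e : ((Y.obj (op U) : Type u) →₀ (O.obj.obj (op U))) ⊗[O.obj.obj (op U)] F₀ :=
    ∑ i : ↥s, Finsupp.single (ys i) (1 : (O.obj.obj (op U))) ⊗ₜ[O.obj.obj (op U)] i.1.2
  have he : LinearMap.rTensor F₀ q e = 0 := by
    refine Eq.trans ?_ hz
    rw [map_sum, map_sum, ← Finset.sum_coe_sort s]
    refine Finset.sum_congr rfl fun i _ => ?_
    rw [LinearMap.rTensor_tmul, show q (Finsupp.single (ys i) (1 : (O.obj.obj (op U)))) = ys i by simp [q]]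
    rfl
  have hex : Function.Exact (LinearMap.rTensor F₀ (LinearMap.ker q).subtype) (LinearMap.rTensor F₀ q) := by
    refine rTensor_exact (M := LinearMap.ker q)
      (N := (Y.obj (op U) : Type u) →₀ O.obj.obj (op U)) F₀ ?_ hq
    exact LinearMap.exact_subtype_ker_map q
  obtain ⟨ζ, hζ⟩ := (hex e).1 he
  obtain ⟨u, rfl⟩ := TensorProduct.exists_finset ζ
  let w : ↥s ⊕ ↥u → Sec F U := Sum.elim (fun i => i.1.2) (fun k => k.1.2)
  let rel : (Y.obj (op U) : Type u) → ↥s ⊕ ↥u → (O.obj.obj (op U)) := fun y =>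
    Sum.elim (fun i => (Finsupp.single (ys i) (1 : (O.obj.obj (op U)))) y) (fun k => -(k.1.1.1 y))
  let A : Finset (Y.obj (op U) : Type u) :=
    Finset.univ.image ys ∪ Finset.univ.biUnion fun k : ↥u => k.1.1.1.support
  have hA : ∀ y ∈ A, ∑ i, rel y i • w i = 0 := fun y _ => by
    have h := congrArg (fun v => TensorProduct.lid (O.obj.obj (op U)) F₀ (LinearMap.rTensor F₀ (Finsupp.lapply y) v)) hζ
    simp only [e, map_sum, LinearMap.rTensor_tmul, TensorProduct.lid_tmul] at h
    rw [Fintype.sum_sum_type]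
    simp only [rel, w, Sum.elim_inl, Sum.elim_inr, neg_smul, Finset.sum_neg_distrib, ← sub_eq_add_neg]
    rw [sub_eq_zero]
    refine h.symm.trans ?_
    exact (Finset.sum_coe_sort u fun p => (p.1.1 y) • p.2).symm
  obtain ⟨S, hS, hS'⟩ := exists_factors_finset hF w rel A hA
  refine ⟨S, hS, fun W g hg => ?_⟩
  obtain ⟨l, t, b, hw, hb⟩ := hS' g hg
  letI : Module (O.obj.obj (op W)) (X.obj (op W)) := (X.obj (op W)).isModule
  letI : Module (O.obj.obj (op W)) (Y.obj (op W)) := (Y.obj (op W)).isModule
  have e₁ : SiteTen.res (X ⊗ (ModSite.toPre O).obj F) g (∑ i ∈ s, i.1 ⊗ₜ[O.obj.obj (op U)] i.2) =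
      ∑ i : ↥s, SiteTen.res X g i.1.1 ⊗ₜ[O.obj.obj (op W)] secRes F g i.1.2 := by
    rw [map_sum, ← Finset.sum_coe_sort s]
    rfl
  refine e₁.trans ?_
  have e₂ : ∀ i : ↥s, secRes F g i.1.2 = ∑ k, b (Sum.inl i) k • t k := fun i => hw (Sum.inl i)
  have e₃ : ∀ k, ∑ i : ↥s, b (Sum.inl i) k • SiteTen.res X g i.1.1 = 0 := fun k => by
    apply hf (op W)
    refine (map_sum (f.app (op W)).hom _ _).trans (Eq.trans ?_ (map_zero (f.app (op W)).hom).symm)
    have e' : ∀ i : ↥s, (f.app (op W)).hom (b (Sum.inl i) k • SiteTen.res X g i.1.1) =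
        b (Sum.inl i) k • SiteTen.res Y g (ys i) := fun i =>
      ((f.app (op W)).hom.map_smul _ _).trans (congrArg _ (SiteTen.res_app f g i.1.1).symm)
    rw [Finset.sum_congr rfl fun i _ => e' i]
    have hd : ∀ (κ : (Y.obj (op U) : Type u) →₀ (O.obj.obj (op U))), κ.support ⊆ A →
        ∑ y ∈ A, (O.obj.map g.op).hom (κ y) • SiteTen.res Y g y = SiteTen.res Y g (q κ) := fun κ hκ => by
      have : q κ = ∑ y ∈ A, κ y • y := Finsupp.linearCombination_apply_of_mem_supported (O.obj.obj (op U)) hκ
      rw [this, map_sum]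
      exact Finset.sum_congr rfl fun y _ => (SiteTen.res_smul Y g (κ y) y).symm
    have h₀ : ∑ y ∈ A, (∑ i, b i k * (O.obj.map g.op).hom (rel y i)) • SiteTen.res Y g y = 0 :=
      Finset.sum_eq_zero fun y hy => by rw [hb y hy k, zero_smul]
    simp only [Fintype.sum_sum_type, add_smul, Finset.sum_smul, mul_smul, Finset.sum_add_distrib] at h₀
    simp only [Finset.sum_comm (s := A)] at h₀
    simp only [← Finset.smul_sum, rel, Sum.elim_inl, Sum.elim_inr, map_neg, neg_smul,
      Finset.sum_neg_distrib, smul_neg] at h₀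
    refine Eq.trans ?_ h₀
    have hz₂ : ∑ k' : ↥u, b (Sum.inr k') k • ∑ y ∈ A, (O.obj.map g.op).hom (k'.1.1.1 y) •
        SiteTen.res Y g y = 0 :=
      Finset.sum_eq_zero fun k' _ => by
        rw [hd _ (fun y hy => Finset.mem_union_right _ (Finset.mem_biUnion.2 ⟨k', Finset.mem_univ _, hy⟩)),
          LinearMap.mem_ker.1 k'.1.1.2, map_zero, smul_zero]
    rw [hz₂, neg_zero, add_zero]
    refine Finset.sum_congr rfl fun i _ => congrArg _ ?_
    rw [hd _ (fun y hy => Finset.mem_union_left _ (Finset.mem_image.2 ⟨i, Finset.mem_univ _,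
      (Finset.mem_singleton.1 (Finsupp.support_single_subset hy)).symm⟩))]
    simp [q]
  simp only [e₂, TensorProduct.tmul_sum, TensorProduct.tmul_smul, TensorProduct.smul_tmul']
  rw [Finset.sum_comm]
  exact Finset.sum_eq_zero fun k _ => by
    rw [← TensorProduct.sum_tmul, e₃, TensorProduct.zero_tmul]

/-- A module with locally trivial relations is flat. -/
theorem isFlat_of_hasLocalTriv {F : ModSite.Mod O} (hF : HasLocalTriv F) : ModSite.IsFlat F :=
  SiteTen.isFlat_of_preservesMono fun X Y f _ => by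
    let F' := (ModSite.toPre O).obj F
    let f' := (ModSite.toPre O).map f
    haveI : (ModSite.toPre O).IsRightAdjoint := (SiteTen.shAdj O).isRightAdjoint
    haveI : Mono f' := inferInstance
    haveI : (ModSite.toPre O).Faithful :=
      inferInstanceAs (SheafOfModules.forget (ModSite.ringSh O)).Faithful
    let φ := ((ModSite.tensorBi O).flip.obj F).map f
    suffices Mono ((ModSite.toPre O).map φ) from (ModSite.toPre O).mono_of_mono_map this
    refine PresheafOfModules.mono_of_injective fun V => ?_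
    refine (injective_iff_map_eq_zero (((ModSite.toPre O).map φ).app V).hom).2 fun a ha => ?_
    haveI := ((J.W_iff_isLocallyBijective _).1
      (SiteTen.isW_unit (O := O) ((ModSite.toPre O).obj Y ⊗ F'))).1
    refine SiteTen.ext_of_sieve _ (U := V.unop)
      (SiteTen.imageSieve_mem (SiteTen.isW_unit ((ModSite.toPre O).obj X ⊗ F')) a) fun W g hg => ?_
    rw [map_zero]
    obtain ⟨z, hz⟩ := hg
    refine Eq.trans hz.symm ?_
    have h₁ : (SiteTen.η O _).app (op W) ((f' ▷ F').app (op W) z) = 0 := by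
      refine (congrArg (fun γ => γ.app (op W) z) ((SiteTen.shAdj O).unit.naturality (f' ▷ F'))).trans ?_
      refine (congrArg (fun v => secMap φ W v) hz).trans ?_
      refine (DerCompLib.secMap_secRes φ g a).trans ?_
      exact (congrArg _ ha).trans (map_zero _)
    refine SiteTen.ext_of_sieve _
      (Presheaf.equalizerSieve_mem J
        (SiteTen.abMap (SiteTen.η O ((ModSite.toPre O).obj Y ⊗ F'))) (X := op W)
        ((f' ▷ F').app (op W) z) 0
        (h₁.trans ((SiteTen.η O ((ModSite.toPre O).obj Y ⊗ F')).app (op W)).hom.map_zero.symm)) fun W' k hk => ?_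
    have h₂ : (f' ▷ F').app (op W') (SiteTen.res _ k z) = 0 :=
      (SiteTen.res_app (f' ▷ F') k z).symm.trans (hk.trans (map_zero _))
    obtain ⟨S, hS, hS'⟩ := locally_eq_zero hF f'
      (fun V => PresheafOfModules.injective_of_mono f' V) _ h₂
    refine SiteTen.ext_of_sieve _ hS fun W'' k' hk' => ?_
    let ηX := SiteTen.η O ((ModSite.toPre O).obj X ⊗ F')
    refine ((congrArg (SiteTen.res _ k') (SiteTen.res_app ηX k z)).trans ((SiteTen.res_app ηX k' _).trans
      (congrArg (ηX.app (op W'')).hom (hS' k' hk')))).trans ?_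
    exact (ηX.app (op W'')).hom.map_zero.trans
      (by rw [map_zero, map_zero])

end Groth.Agent.SiteHom16
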