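import Groth.Agent.SiteHom16.CellStep
import Groth.Agent.DerCompLib.LeftBij
import Groth.Agent.SiteTen.KFlat
import Groth.Agent.DCat.Cells
import Mathlib.CategoryTheory.Limits.Constructions.EventuallyConstant
import Mathlib.CategoryTheory.Functor.OfSequence

/-!
# Systems of free resolutions of the truncations of a complex
-/

set_option autoImplicit false
set_option backward.isDefEq.respectTransparency false

universe u

open CategoryTheory CategoryTheory.Limits Opposite HomologicalComplex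

namespace Groth.Agent.SiteHom16

variable {C : Type u} [SmallCategory C] {J : GrothendieckTopology C} {O : Sheaf J CommRingCat.{u}}

open DerCompLib (IsFree IsFreeOn secMap)

lemma isFree_of_iso {M N : ModSite.Mod O} (e : M ≅ N) (h : IsFree M) : IsFree N := by
  obtain ⟨ι, V, x, hx⟩ := h
  refine ⟨ι, V, fun i => secMap e.hom (V i) (x i), fun P => ?_⟩
  have h : (fun (φ : N ⟶ P) (i : ι) => secMap φ (V i) (secMap e.hom (V i) (x i))) =
      (fun (φ : M ⟶ P) i => secMap φ (V i) (x i)) ∘ e.symm.homFromEquiv := by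
    funext φ i
    rfl
  rw [h]
  exact (hx P).comp (Equiv.bijective _)

lemma exists_iso_sigma {M : ModSite.Mod O} (h : IsFree M) :
    ∃ (ι : Type u) (U : ι → C), Nonempty (M ≅ ∐ fun j => ModSite.freeOn O (U j)) := by
  obtain ⟨ι, V, x, hx⟩ := h
  obtain ⟨φ, hφ, -⟩ := hx.exists_iso_frS
  obtain ⟨ψ, hψ, -⟩ := (DerCompLib.isFreeOn_sigma_freeOn O V).exists_iso_frS
  exact ⟨ι, V, ⟨(asIso φ).symm ≪≫ asIso ψ⟩⟩

variable (G : CochainComplex (ModSite.Mod O) ℤ)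

/-- A resolution of one truncation. -/
structure Lvl (n : ℕ) where
  /-- the complex -/
  K : CochainComplex (ModSite.Mod O) ℤ
  /-- the resolution -/
  π : K ⟶ G.truncLE ((n : ℤ) + 1)
  le : K.IsStrictlyLE ((n : ℤ) + 1)
  free : ∀ i, IsFree (K.X i)
  qis : QuasiIso π
  epi : ∀ i, Epi (π.f i)

theorem nonempty_lvl_zero : Nonempty (Lvl G 0) := by
  obtain ⟨Q, α, hQ, hfree, hepi, hq⟩ := DCat.LeftRes.exists_resolution (IsFree (OD := O))
    ⟨_, isZero_kernel_of_mono (𝟙 (ModSite.unit O)), DerCompLib.isFree_of_isZero (isZero_kernel_of_mono _)⟩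
    DerCompLib.exists_isFree_cover (G.truncLE ((0 : ℕ) + 1 : ℤ)) ((0 : ℕ) + 1 : ℤ)
  exact ⟨⟨Q, α, hQ, hfree, hq, hepi⟩⟩

theorem exists_lvl_succ {n : ℕ} (s : Lvl G n) :
    ∃ (s' : Lvl G (n + 1)) (t : s.K ⟶ s'.K),
      t ≫ s'.π ≫ G.ιTruncLE (((n + 1 : ℕ) : ℤ) + 1) = s.π ≫ G.ιTruncLE ((n : ℤ) + 1) ∧
      ∀ i, ∃ (Y : ModSite.Mod O) (r : s'.K.X i ⟶ s.K.X i), IsFree Y ∧ t.f i ≫ r = 𝟙 _ ∧
        Nonempty (cokernel (t.f i) ≅ Y) := by
  let m : ℤ := ((n + 1 : ℕ) : ℤ) + 1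
  haveI : (G.truncLE ((n : ℤ) + 1)).IsStrictlyLE m :=
    (G.truncLE ((n : ℤ) + 1)).isStrictlyLE_of_le ((n : ℤ) + 1) m (by omega)
  haveI := s.le
  haveI : s.K.IsStrictlyLE m := s.K.isStrictlyLE_of_le ((n : ℤ) + 1) m (by omega)
  let j : G.truncLE ((n : ℤ) + 1) ⟶ G.truncLE m :=
    inv ((G.truncLE ((n : ℤ) + 1)).ιTruncLE m) ≫ CochainComplex.truncLEMap (G.ιTruncLE ((n : ℤ) + 1)) m
  obtain ⟨K', i, π, hi, hq, hepi, hle, hsplit⟩ := CellStep.exists_extension (IsFree (OD := O))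
    ⟨_, isZero_kernel_of_mono (𝟙 (ModSite.unit O)), DerCompLib.isFree_of_isZero (isZero_kernel_of_mono _)⟩
    DerCompLib.exists_isFree_cover (s.π ≫ j) m
  refine ⟨⟨K', π, hle, fun k => ?_, hq, hepi⟩, i, ?_, fun k => ?_⟩
  · obtain ⟨Y, -, hY, -, -, ⟨e⟩⟩ := hsplit k
    exact isFree_of_iso e.symm (hY.biprod (s.free k))
  · change i ≫ π ≫ G.ιTruncLE m = _
    rw [reassoc_of% hi]
    simp [j, CochainComplex.ιTruncLE_naturality]
  · obtain ⟨Y, r, hY, hr, he, -⟩ := hsplit k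
    exact ⟨Y, r, hY, hr, he⟩

/-- Systems of free resolutions of truncations. -/
theorem exists_freeOn_system :
    ∃ (Kc : ℕ ⥤ CochainComplex (ModSite.Mod O) ℤ) (π : ∀ n : ℕ, Kc.obj n ⟶ G.truncLE ((n : ℤ) + 1)),
      (∀ n : ℕ, Kc.map (homOfLE (Nat.le_succ n)) ≫ π (n + 1) ≫ G.ιTruncLE (((n + 1 : ℕ) : ℤ) + 1) =
        π n ≫ G.ιTruncLE ((n : ℤ) + 1)) ∧
      (∀ n : ℕ, QuasiIso (π n) ∧ ∀ i : ℤ, Epi ((π n).f i)) ∧
      (∀ n : ℕ, ∃ b : ℤ, (Kc.obj n).IsStrictlyLE b) ∧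
      (∀ (n : ℕ) (i : ℤ), ∃ (ι : Type u) (U : ι → C),
        Nonempty ((Kc.obj n).X i ≅ ∐ fun j => ModSite.freeOn O (U j))) ∧
      (∀ (n : ℕ) (i : ℤ), ∃ r : (Kc.obj (n + 1)).X i ⟶ (Kc.obj n).X i,
        (Kc.map (homOfLE (Nat.le_succ n))).f i ≫ r = 𝟙 _ ∧
        ∃ (ι : Type u) (U : ι → C),
          Nonempty (cokernel ((Kc.map (homOfLE (Nat.le_succ n))).f i) ≅ ∐ fun j => ModSite.freeOn O (U j))) ∧
      ∃ c : colimit Kc ⟶ G, (∀ n : ℕ, colimit.ι Kc n ≫ c = π n ≫ G.ιTruncLE ((n : ℤ) + 1)) ∧ QuasiIso c := by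
  choose next tr hcomm hsplit using fun n (s : Lvl G n) => exists_lvl_succ G s
  let seq : ∀ n, Lvl G n := fun n => Nat.rec (nonempty_lvl_zero G).some next n
  let F : ℕ ⥤ CochainComplex (ModSite.Mod O) ℤ :=
    Functor.ofSequence (X := fun n => (seq n).K) fun n => tr n (seq n)
  have hF : ∀ n, F.map (homOfLE (Nat.le_succ n)) = tr n (seq n) := fun n =>
    Functor.ofSequence_map_homOfLE_succ _ n
  let π : ∀ n : ℕ, F.obj n ⟶ G.truncLE ((n : ℤ) + 1) := fun n => (seq n).π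
  have hc : ∀ n, F.map (homOfLE (Nat.le_succ n)) ≫ π (n + 1) ≫ G.ιTruncLE (((n + 1 : ℕ) : ℤ) + 1) =
      π n ≫ G.ιTruncLE ((n : ℤ) + 1) := fun n => by
    rw [hF]
    exact hcomm n (seq n)
  let cc : Cocone F :=
    { pt := G
      ι := NatTrans.ofSequence (fun n => π n ≫ G.ιTruncLE ((n : ℤ) + 1)) fun n =>
        (hc n).trans (Category.comp_id _).symm }
  let c := colimit.desc F cc
  have hfac : ∀ n, colimit.ι F n ≫ c = π n ≫ G.ιTruncLE ((n : ℤ) + 1) := fun n => colimit.ι_desc cc n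
  refine ⟨F, π, hc, fun n => ⟨(seq n).qis, (seq n).epi⟩, fun n => ⟨_, (seq n).le⟩,
    fun n i => exists_iso_sigma ((seq n).free i), fun n i => ?_, c, hfac, ⟨fun i => ?_⟩⟩
  · obtain ⟨Y, r, hY, hr, ⟨e⟩⟩ := hsplit n (seq n) i
    obtain ⟨ι, U, ⟨e'⟩⟩ := exists_iso_sigma hY
    rw [hF]
    exact ⟨r, hr, ι, U, ⟨e ≪≫ e'⟩⟩
  rw [quasiIsoAt_iff_isIso_homologyMap]
  obtain ⟨hH⟩ := DCat.nonempty_isColimit_homology (colimit.isColimit F) i
  have hiso : ∀ n : ℕ, i.toNat ≤ n → IsIso (homologyMap (π n ≫ G.ιTruncLE ((n : ℤ) + 1)) i) := fun n hn => by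
    haveI := (seq n).qis
    haveI : QuasiIsoAt (G.ιTruncLE ((n : ℤ) + 1)) i :=
      CochainComplex.quasiIsoAt_ιTruncLE _ _ _ (by omega)
    rw [← quasiIsoAt_iff_isIso_homologyMap]
    exact @quasiIsoAt_comp _ _ _ _ _ _ _ _ (π n) (G.ιTruncLE ((n : ℤ) + 1)) i _ _ _ ((seq n).qis.quasiIsoAt i) _
  have hev : (F ⋙ homologyFunctor (ModSite.Mod O) (ComplexShape.up ℤ) i).IsEventuallyConstantFrom
      i.toNat := fun n f => by
    haveI := hiso n (leOfHom f)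
    have e : homologyMap (F.map f) i ≫ homologyMap (π n ≫ G.ιTruncLE ((n : ℤ) + 1)) i =
        homologyMap (π i.toNat ≫ G.ιTruncLE ((i.toNat : ℤ) + 1)) i := by
      rw [← hfac, ← hfac, ← homologyMap_comp, colimit.w_assoc]
    haveI := hiso i.toNat le_rfl
    haveI : IsIso (homologyMap (F.map f) i ≫ homologyMap (π n ≫ G.ιTruncLE ((n : ℤ) + 1)) i) := e ▸ inferInstance
    exact IsIso.of_isIso_comp_right (homologyMap (F.map f) i) (homologyMap (π n ≫ G.ιTruncLE ((n : ℤ) + 1)) i)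
  haveI : IsIso (homologyMap (colimit.ι F i.toNat) i) := hev.isIso_ι_of_isColimit hH
  haveI := hiso i.toNat le_rfl
  haveI : IsIso (homologyMap (colimit.ι F i.toNat) i ≫ homologyMap c i) := by
    rw [← homologyMap_comp, hfac]
    infer_instance
  exact IsIso.of_isIso_comp_left (homologyMap (colimit.ι F i.toNat) i) (homologyMap c i)

end Groth.Agent.SiteHom16
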