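import Groth.Agent.DCat.LeftRes
import Mathlib.Algebra.Homology.HomotopyCategory.MappingCone
import Mathlib.Algebra.Homology.Refinements
import Mathlib.Algebra.Homology.QuasiIso

/-!
# Extending a map to a surjective quasi-isomorphism by a degreewise split inclusion

Given `f : K ⟶ G` of bounded above complexes and a class `P` with enough quotients, `f` factors as
a degreewise split inclusion with cokernels in `P` followed by a degreewise surjective
quasi-isomorphism.
-/

set_option autoImplicit false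
set_option backward.isDefEq.respectTransparency false

universe v u

open CategoryTheory CategoryTheory.Limits HomologicalComplex CochainComplex

namespace Groth.Agent.SiteHom16.CellStep

variable {A : Type u} [Category.{v} A] [Abelian A]
variable {K G Q : CochainComplex A ℤ} {f : K ⟶ G} (α : Q ⟶ mappingCone f)

/-- The component towards the source of `f`. -/
noncomputable abbrev δ (i j : ℤ) (h : i + 1 = j) : Q.X i ⟶ K.X j :=
  α.f i ≫ (mappingCone.fst f).1.v i j h

/-- The component towards the target of `f`. -/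
noncomputable abbrev s (i : ℤ) : Q.X i ⟶ G.X i :=
  α.f i ≫ (mappingCone.snd f).v i i (add_zero i)

lemma δ_d (i j k : ℤ) (hij : i + 1 = j) (hjk : j + 1 = k) :
    δ α i j hij ≫ K.d j k = -(Q.d i j ≫ δ α j k hjk) := by
  rw [δ, δ, ← α.comm_assoc, mappingCone.d_fst_v f i j k hij hjk]
  simp

lemma s_d (i j : ℤ) (hij : i + 1 = j) :
    Q.d i j ≫ s α j = δ α i j hij ≫ f.f j + s α i ≫ G.d i j := by
  rw [s, δ, ← α.comm_assoc, mappingCone.d_snd_v f i j hij]
  simp

/-- The differential of the extension. -/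
noncomputable def extD (n : ℤ) : Q.X n ⊞ K.X n ⟶ Q.X (n + 1) ⊞ K.X (n + 1) :=
  biprod.lift (biprod.fst ≫ Q.d n (n + 1))
    (biprod.snd ≫ K.d n (n + 1) - biprod.fst ≫ δ α n (n + 1) rfl)

lemma extD_comp (n : ℤ) : extD α n ≫ extD α (n + 1) = 0 := by
  refine biprod.hom_ext _ _ ?_ ?_
  · simp [extD]
  · simp only [extD, Category.assoc, biprod.lift_snd, Preadditive.comp_sub, biprod.lift_snd_assoc,
      biprod.lift_fst_assoc, Preadditive.sub_comp, K.d_comp_d, comp_zero, zero_sub,
      δ_d α n (n + 1) (n + 1 + 1) rfl rfl]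
    simp

/-- The extension of `K` by `Q`. -/
noncomputable def ext : CochainComplex A ℤ :=
  CochainComplex.of (fun n => Q.X n ⊞ K.X n) (extD α) (extD_comp α)

lemma ext_d (i j : ℤ) (h : i + 1 = j) : (ext α).d i j =
    biprod.lift (biprod.fst ≫ Q.d i j) (biprod.snd ≫ K.d i j - biprod.fst ≫ δ α i j h) := by
  subst h
  simp [ext, CochainComplex.of.d, extD]

/-- The inclusion of `K`. -/
noncomputable def incl : K ⟶ ext α where
  f _ := biprod.inr
  comm' i j (h : i + 1 = j) := by
    rw [ext_d α i j h]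
    refine biprod.hom_ext _ _ ?_ ?_ <;> simp [Preadditive.comp_sub]

/-- The map to `G`. -/
noncomputable def proj : ext α ⟶ G where
  f n := biprod.desc (s α n) (f.f n)
  comm' i j (h : i + 1 = j) := by
    rw [ext_d α i j h]
    refine biprod.hom_ext' _ _ ?_ ?_
    · simp [biprod.lift_desc, s_d α i j h, Preadditive.comp_sub, Preadditive.comp_add]
    · simp [biprod.lift_desc, Preadditive.comp_sub, Preadditive.comp_add, f.comm]

lemma incl_proj : incl α ≫ proj α = f := by
  ext n
  simp [incl, proj]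

theorem quasiIso_proj [hq : QuasiIso α] : QuasiIso (proj α) := by
  have hα : ∀ n, IsIso (homologyMap α n) := fun n => by
    rw [← quasiIsoAt_iff_isIso_homologyMap]; infer_instance
  refine ⟨fun n => ?_⟩
  rw [quasiIsoAt_iff_isIso_homologyMap]
  have hp : ∀ m : ℤ, (ComplexShape.up ℤ).prev m = m - 1 := fun m => by simp
  have hn : ∀ m : ℤ, (ComplexShape.up ℤ).next m = m + 1 := fun m => by simp
  have he : ∀ m, Epi (homologyMap α m) := fun m => by haveI := hα m; infer_instance
  have hm : ∀ m, Mono (homologyMap α m) := fun m => by haveI := hα m; infer_instance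
  haveI : Epi (homologyMap (proj α) n) := by
    rw [epi_homologyMap_iff_up_to_refinements _ (n - 1) n (n + 1) (hp n) (hn n)]
    intro T y hy
    obtain ⟨T', π, hπ, q, hq, w, hw⟩ := (epi_homologyMap_iff_up_to_refinements α (n - 1) n (n + 1)
      (hp n) (hn n)).1 (he n) (y ≫ (mappingCone.inr f).f n) (by
        rw [Category.assoc, mappingCone.inr_f_d, reassoc_of% hy, zero_comp])
    let x := w ≫ (mappingCone.fst f).1.v (n - 1) n (by omega)
    have h₁ : q ≫ δ α n (n + 1) rfl = x ≫ K.d n (n + 1) := by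
      have := congrArg (· ≫ (mappingCone.fst f).1.v n (n + 1) rfl) hw
      simp only [Category.assoc, mappingCone.inr_f_fst_v, comp_zero, Preadditive.add_comp,
        mappingCone.d_fst_v f (n - 1) n (n + 1) (by omega) rfl, Preadditive.comp_neg,
        Preadditive.neg_comp] at this
      simp only [x, Category.assoc]
      exact eq_of_sub_eq_zero ((sub_eq_add_neg _ _).trans this.symm)
    have h₂ : π ≫ y = q ≫ s α n + x ≫ f.f n +
        (w ≫ (mappingCone.snd f).v (n - 1) (n - 1) (add_zero _)) ≫ G.d (n - 1) n := by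
      have := congrArg (· ≫ (mappingCone.snd f).v n n (add_zero _)) hw
      simp only [Category.assoc, mappingCone.inr_f_snd_v, Category.comp_id, Preadditive.add_comp,
        mappingCone.d_snd_v f (n - 1) n (by omega), Preadditive.comp_add] at this
      simp only [x, Category.assoc, add_assoc]
      exact this
    refine ⟨T', π, hπ, biprod.lift q x, ?_, _, h₂.trans (congrArg (· + _) ?_)⟩
    · rw [ext_d α n (n + 1) rfl]
      refine biprod.hom_ext _ _ ?_ ?_
      · simp [hq]
      · simp [Preadditive.comp_sub, h₁]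
    · simp [proj, biprod.lift_desc]
  haveI : Mono (homologyMap (proj α) n) := by
    rw [mono_homologyMap_iff_up_to_refinements _ (n - 1) n (n + 1) (hp n) (hn n)]
    intro T z hz g hg
    let q : T ⟶ Q.X n := z ≫ biprod.fst
    let k : T ⟶ K.X n := z ≫ biprod.snd
    rw [ext_d α n (n + 1) rfl] at hz
    have hq : q ≫ Q.d n (n + 1) = 0 := by
      simpa [q] using congrArg (· ≫ biprod.fst) hz
    have hk : k ≫ K.d n (n + 1) = q ≫ δ α n (n + 1) rfl := by
      simpa [k, q, Preadditive.comp_sub, sub_eq_zero] using congrArg (· ≫ biprod.snd) hz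
    have hfg : q ≫ s α n + k ≫ f.f n = g ≫ G.d (n - 1) n := by
      refine Eq.trans ?_ hg
      simp [q, k, proj, biprod.desc_eq, Preadditive.comp_add]
    have hqα : q ≫ α.f n =
        ((-k) ≫ (mappingCone.inl f).v n (n - 1) (by omega) + g ≫ (mappingCone.inr f).f (n - 1)) ≫
          (mappingCone f).d (n - 1) n := by
      refine mappingCone.ext_to f n (n + 1) rfl ?_ ?_
      · simp [mappingCone.d_fst_v f (n - 1) n (n + 1) (by omega) rfl, hk]
      · simp [mappingCone.d_snd_v f (n - 1) n (by omega), ← hfg]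
    obtain ⟨T₁, π₁, hπ₁, q', hq'⟩ := (mono_homologyMap_iff_up_to_refinements α (n - 1) n (n + 1)
      (hp n) (hn n)).1 (hm n) q hq _ hqα
    let k' := π₁ ≫ k + q' ≫ δ α (n - 1) n (by omega)
    let g' := q' ≫ s α (n - 1) - π₁ ≫ g
    have hk' : k' ≫ K.d n (n + 1) = 0 := by
      simp only [k', Preadditive.add_comp, Category.assoc, hk,
        δ_d α (n - 1) n (n + 1) (by omega) rfl, Preadditive.comp_neg, ← reassoc_of% hq']
      simp
    have hfk' : k' ≫ f.f n + g' ≫ G.d (n - 1) n = 0 := by
      have e := congrArg (q' ≫ ·) (s_d α (n - 1) n (by omega))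
      simp only [Preadditive.comp_add, ← reassoc_of% hq'] at e
      have e' := congrArg (π₁ ≫ ·) hfg
      simp only [Preadditive.comp_add] at e'
      simp only [k', g', Preadditive.add_comp, Preadditive.sub_comp, Category.assoc, ← e', e]
      abel
    let w := k' ≫ (mappingCone.inl f).v n (n - 1) (by omega) + g' ≫ (mappingCone.inr f).f (n - 1)
    have hw : w ≫ (mappingCone f).d (n - 1) n = 0 := by
      refine mappingCone.ext_to f n (n + 1) rfl ?_ ?_
      · simp [w, mappingCone.d_fst_v f (n - 1) n (n + 1) (by omega) rfl, hk']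
      · simp [w, mappingCone.d_snd_v f (n - 1) n (by omega), hfk']
    obtain ⟨T₂, π₂, hπ₂, q'', hq'', w₁, hw₁⟩ := (epi_homologyMap_iff_up_to_refinements α
      (n - 1 - 1) (n - 1) n (hp _) ((hn _).trans (by omega))).1 (he _) w hw
    let x₁ := w₁ ≫ (mappingCone.fst f).1.v (n - 1 - 1) (n - 1) (by omega)
    have hk'' : π₂ ≫ k' = q'' ≫ δ α (n - 1) n (by omega) - x₁ ≫ K.d (n - 1) n := by
      have := congrArg (· ≫ (mappingCone.fst f).1.v (n - 1) n (by omega)) hw₁
      simp only [w, Category.assoc, Preadditive.add_comp, mappingCone.inl_v_fst_v,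
        mappingCone.inr_f_fst_v, Category.comp_id, comp_zero, add_zero,
        mappingCone.d_fst_v f (n - 1 - 1) (n - 1) n (by omega) (by omega), Preadditive.comp_neg,
        Preadditive.neg_comp] at this
      simpa [x₁, sub_eq_add_neg] using this
    refine ⟨T₂, π₂ ≫ π₁, inferInstance, biprod.lift (π₂ ≫ q' - q'') (-x₁), ?_⟩
    rw [ext_d α (n - 1) n (by omega)]
    refine biprod.hom_ext _ _ ?_ ?_
    · simp [Preadditive.sub_comp, hq'', ← hq', q]
    · have e := hk''
      simp only [k', Preadditive.comp_add] at e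
      simp only [Category.assoc, biprod.lift_snd, Preadditive.comp_sub, biprod.lift_snd_assoc,
        biprod.lift_fst_assoc, Preadditive.sub_comp, Preadditive.neg_comp]
      rw [← eq_sub_iff_add_eq] at e
      refine e.trans ?_
      abel
  exact isIso_of_mono_of_epi _

/-- A class of objects with enough quotients gives extensions. -/
theorem exists_extension (P : A → Prop) (hP0 : ∃ Z : A, IsZero Z ∧ P Z)
    (hP : ∀ X : A, ∃ (Y : A) (π : Y ⟶ X), P Y ∧ Epi π) (f : K ⟶ G) (b : ℤ)
    [K.IsStrictlyLE b] [G.IsStrictlyLE b] :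
    ∃ (K' : CochainComplex A ℤ) (i : K ⟶ K') (π : K' ⟶ G), i ≫ π = f ∧ QuasiIso π ∧
      (∀ n, Epi (π.f n)) ∧ K'.IsStrictlyLE b ∧
      ∀ n, ∃ (Y : A) (r : K'.X n ⟶ K.X n), P Y ∧ i.f n ≫ r = 𝟙 _ ∧
        Nonempty (cokernel (i.f n) ≅ Y) ∧ Nonempty (K'.X n ≅ Y ⊞ K.X n) := by
  haveI : (mappingCone f).IsStrictlyLE b := by
    rw [CochainComplex.isStrictlyLE_iff]
    intro i hi
    rw [mappingCone.isZero_X_iff]
    exact ⟨K.isZero_of_isStrictlyLE b (i + 1) (by omega), G.isZero_of_isStrictlyLE b i hi⟩
  obtain ⟨Q, α, hQ, hPQ, hepi, hqis⟩ := DCat.LeftRes.exists_resolution P hP0 hP (mappingCone f) b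
  refine ⟨ext α, incl α, proj α, incl_proj α, quasiIso_proj α, fun n => ?_, ?_, fun n => ?_⟩
  · haveI := hepi n
    haveI : Epi (s α n) := by
      haveI : Epi ((mappingCone.snd f).v n n (add_zero n)) :=
        epi_of_epi_fac (mappingCone.inr_f_snd_v f n)
      exact epi_comp _ _
    exact epi_of_epi_fac (show biprod.inl ≫ (proj α).f n = s α n by simp [proj])
  · rw [CochainComplex.isStrictlyLE_iff]
    intro i hi
    exact (biprod_isZero_iff _ _).2 ⟨Q.isZero_of_isStrictlyLE b i hi, K.isZero_of_isStrictlyLE b i hi⟩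
  · refine ⟨Q.X n, biprod.snd, hPQ n, by simp [incl], ⟨?_⟩, ⟨Iso.refl _⟩⟩
    exact IsColimit.coconePointUniqueUpToIso (cokernelIsCokernel ((incl α).f n))
      (biprod.isCokernelInrCokernelFork (Q.X n) (K.X n))

end Groth.Agent.SiteHom16.CellStep
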